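import Groth.Agent.EtArtinLib.Lift
import Groth.Agent.EtPBCProperLib.Compose
import Groth.Agent.S0620

/-!
# Higher direct images along affine morphisms, given the bound over separably closed fields
-/

set_option autoImplicit false
set_option linter.all false
set_option backward.isDefEq.respectTransparency false
set_option backward.isDefEq.respectTransparency.types false
set_option synthInstance.maxHeartbeats 400000
set_option maxHeartbeats 1000000

universe u

open CategoryTheory CategoryTheory.Limits CategoryTheory.Abelian AlgebraicGeometry Opposite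
open Groth.Agent Groth.Agent.EtShLib EtPBCProperLib SkySumLib

attribute [local instance] EtSliceLib.pullExact

noncomputable section

namespace EtArtinLib

variable {k : Type u} [Field k] {X Y : Scheme.{u}} (aX : X ⟶ Spec (CommRingCat.of k))
  (aY : Y ⟶ Spec (CommRingCat.of k)) [LocallyOfFiniteType aX] [LocallyOfFiniteType aY]
  (f : X ⟶ Y) (w : f ≫ aY = aX) [IsAffineHom f] (F : EtCoh.Ab X) (hF : EtCoh.IsTorsion F) (d : ℕ)
  (hd : ∀ x ∈ EtPBC.supp F, topologicalKrullDim (closure ({x} : Set X)) ≤ d)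

theorem isZero_stk_Rpush (q : ℕ) {Ω : Type u} [Field Ω] [IsSepClosed Ω] (ξ : Spec (CommRingCat.of Ω) ⟶ Y)
    (h : ∀ (R : Type u) [CommRing R] [IsLocalRing R] [Algebra (Y.presheaf.stalk (ξ.base default)) R]
      [IsLocalHom (algebraMap (Y.presheaf.stalk (ξ.base default)) R)]
      [Hensel.IsStrictHenselization (Y.presheaf.stalk (ξ.base default)) R],
      Subsingleton (EtCoh.H (pullback f (Hens2.specOf Y (ξ.base default) R))
        ((EtCoh.pull (pullback.fst f (Hens2.specOf Y (ξ.base default) R))).obj F) q)) :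
    IsZero ((stk (A := AddCommGrpCat.{u + 1}) ξ).obj ((EtCoh.Rpush f q).obj F)) := by
  let y := ξ.base default
  let R := HenselLib.SH (Y.presheaf.stalk y)
  haveI hS : Hensel.IsStrictHenselization (Y.presheaf.stalk y) R := inferInstance
  haveI := hS.henselian
  haveI : IsSepClosed (IsLocalRing.ResidueField R) := hS.isSepClosure.sep_closed
  obtain ⟨i⟩ := Groth.Agent.S0620.result f F y R q
  have h0 : Subsingleton ((EtCoh.stalk (Hens2.geomPt Y y R)).obj ((EtCoh.Rpush f q).obj F)) :=
    i.addCommGroupIsoToAddEquiv.toEquiv.subsingleton_congr.2 (h R)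
  haveI := subsingleton_stk_of_base (Hens2.geomPt Y y R) h0 ξ (by
    rw [Scheme.Hom.comp_apply]
    refine ((congrArg (Hens2.specOf Y y R).base ?_).trans (EtStrictAcycLib.specOf_closedPoint Y y R)).symm
    rw [Subsingleton.elim (default : Spec (CommRingCat.of (IsLocalRing.ResidueField R))) (IsLocalRing.closedPoint _)]
    exact IsLocalRing.comap_closedPoint (IsLocalRing.residue R))
  exact AddCommGrpCat.isZero_of_subsingleton _

include aX aY w in
theorem exists_fibre_subfield (y : Y) (s : ℕ) (hs : (s : Cardinal.{u}) ≤ Dual3.resTrdeg aY y)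
    (R : Type u) [CommRing R] [IsLocalRing R] [Algebra (Y.presheaf.stalk y) R]
    [IsLocalHom (algebraMap (Y.presheaf.stalk y) R)] [Hensel.IsStrictHenselization (Y.presheaf.stalk y) R] :
    ∃ (K : Type u) (_ : Field K) (_ : IsSepClosed K) (g : k →+* K)
      (ψ : pullback f (Hens2.specOf Y y R) ⟶ Spec (CommRingCat.of K)),
      ψ ≫ Spec.map (CommRingCat.ofHom g) = pullback.fst f (Hens2.specOf Y y R) ≫ aX ∧
      (s : Cardinal.{u}) ≤ @Algebra.trdeg k K _ _ g.toAlgebra := by
  have hS : Hensel.IsStrictHenselization (Y.presheaf.stalk y) R := inferInstance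
  haveI := hS.henselian
  haveI : IsSepClosed (IsLocalRing.ResidueField R) := hS.isSepClosure.sep_closed
  obtain ⟨φ, hφ⟩ := Spec.map_surjective (Hens2.specOf Y y R ≫ aY)
  obtain ⟨K, _, _, g, ψ, hψ, hsK⟩ := exists_sepClosed_residual k R φ.hom s (by
    rw [trdeg_residue aY y R φ.hom hφ]; exact hs)
  refine ⟨K, inferInstance, inferInstance, g, pullback.snd _ _ ≫ Spec.map (CommRingCat.ofHom ψ), ?_, hsK⟩
  rw [Category.assoc, ← Spec.map_comp, ← CommRingCat.ofHom_comp, hψ, CommRingCat.ofHom_hom, hφ,
    ← pullback.condition_assoc, w]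

include aX aY w hF hd in
/-- Over points of large residue degree the higher direct images vanish early. -/
theorem isZero_stk_Rpush_of_trdeg {m : ℕ} (hP : Artin.{u} m) {Ω : Type u} [Field Ω] [IsSepClosed Ω]
    (ξ : Spec (CommRingCat.of Ω) ⟶ Y) (s : ℕ) (hs : (s : Cardinal.{u}) ≤ Dual3.resTrdeg aY (ξ.base default))
    (hdm : d ≤ m + s) (q : ℕ) (hq : m < q) :
    IsZero ((stk (A := AddCommGrpCat.{u + 1}) ξ).obj ((EtCoh.Rpush f q).obj F)) := by
  refine isZero_stk_Rpush f F q ξ fun R _ _ _ _ _ => ?_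
  obtain ⟨K, _, _, g, ψ, hψ, hsK⟩ := exists_fibre_subfield aX aY f w _ s hs R
  exact subsingleton_fibre aX aY f w _ _ hP (cohDimLE_sepClosed K) g ψ hψ s hsK F hF d hd hdm q (by omega)

include aX aY w hd in
/-- Outside the image of the support everything vanishes. -/
theorem isZero_stk_Rpush_of_lt {Ω : Type u} [Field Ω] [IsSepClosed Ω]
    (ξ : Spec (CommRingCat.of Ω) ⟶ Y) (s : ℕ) (hs : (s : Cardinal.{u}) ≤ Dual3.resTrdeg aY (ξ.base default))
    (hds : d < s) (q : ℕ) :
    IsZero ((stk (A := AddCommGrpCat.{u + 1}) ξ).obj ((EtCoh.Rpush f q).obj F)) := by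
  refine isZero_stk_Rpush f F q ξ fun R _ _ _ _ _ => ?_
  obtain ⟨K, _, _, g, ψ, hψ, hsK⟩ := exists_fibre_subfield aX aY f w _ s hs R
  exact EtBcBridgeLib.subsingleton_H_of_isZero (isZero_fibre aX aY f w _ _ g ψ hψ s hsK F d hd hds) q

end EtArtinLib
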