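import Groth.Agent.EtArtinLib.Fibre
import Groth.Agent.CdFieldLib.Rel
import Groth.Agent.CdFieldLib.Field
import Mathlib.RingTheory.AlgebraicIndependent.TranscendenceBasis
import Mathlib.FieldTheory.RatFunc.Basic

/-!
# Subfields of strictly henselian rings
-/

set_option autoImplicit false
set_option linter.all false
set_option backward.isDefEq.respectTransparency false
set_option backward.isDefEq.respectTransparency.types false
set_option synthInstance.maxHeartbeats 400000
set_option maxHeartbeats 1000000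

universe u

open CategoryTheory CategoryTheory.Limits AlgebraicGeometry Groth.Agent

noncomputable section

namespace EtArtinLib

/-- A separably closed subfield with many independent elements. -/
theorem exists_sepClosed_residual (k R : Type u) [Field k] [CommRing R] [IsLocalRing R] [HenselianLocalRing R]
    [IsSepClosed (IsLocalRing.ResidueField R)] (φ : k →+* R) (s : ℕ)
    (hs : (s : Cardinal.{u}) ≤ @Algebra.trdeg k (IsLocalRing.ResidueField R) _ _ ((IsLocalRing.residue R).comp φ).toAlgebra) :
    ∃ (K : Type u) (_ : Field K) (_ : IsSepClosed K) (g : k →+* K) (ψ : K →+* R), ψ.comp g = φ ∧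
      (s : Cardinal.{u}) ≤ @Algebra.trdeg k K _ _ g.toAlgebra := by
  letI := φ.toAlgebra
  let L := IsLocalRing.ResidueField R
  letI : Algebra k L := ((IsLocalRing.residue R).comp φ).toAlgebra
  obtain ⟨S, hS⟩ := exists_isTranscendenceBasis' (R := k) (A := L)
  obtain ⟨ι, x, hx⟩ : ∃ (ι : Fin s ↪ S) (x : S → L), AlgebraicIndependent k x := by
    have h1 : (s : Cardinal.{u}) ≤ Cardinal.mk S := by rw [hS.choose_spec.cardinalMk_eq_trdeg]; exact hs
    have h2 : Cardinal.lift.{u} (Cardinal.mk (Fin s)) ≤ Cardinal.lift.{0} (Cardinal.mk S) := by simpa using h1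
    obtain ⟨ι⟩ := Cardinal.lift_mk_le'.1 h2
    exact ⟨ι, hS.choose, hS.choose_spec.1⟩
  have hv := fun i => IsLocalRing.residue_surjective (x (ι i))
  choose v hv using hv
  let ev : MvPolynomial (Fin s) k →+* R := (MvPolynomial.aeval v).toRingHom
  have hres : ∀ p, IsLocalRing.residue R (ev p) = MvPolynomial.aeval (x ∘ ι) p := fun p => by
    show (IsLocalRing.residue R) (MvPolynomial.eval₂ φ v p) = MvPolynomial.eval₂ ((IsLocalRing.residue R).comp φ) (x ∘ ι) p
    rw [MvPolynomial.eval₂_comp_left (IsLocalRing.residue R)]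
    exact congrArg (fun t => MvPolynomial.eval₂ ((IsLocalRing.residue R).comp φ) t p) (funext hv)
  have hu : ∀ p : nonZeroDivisors (MvPolynomial (Fin s) k), IsUnit (ev p) := fun p => by
    by_contra hne
    refine nonZeroDivisors.ne_zero p.2 ((hx.comp ι ι.injective).eq_zero_of_aeval_eq_zero _ ?_)
    rw [← hres]
    exact (IsLocalRing.residue_eq_zero_iff _).2 hne
  let K₀ := FractionRing (MvPolynomial (Fin s) k)
  let ψ₀ : K₀ →+* R := IsLocalization.lift hu
  obtain ⟨K, _, _, j, ψ, hψ⟩ := CdFieldLib.exists_sepClosed_lift K₀ R ψ₀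
  refine ⟨K, inferInstance, inferInstance, j.comp (algebraMap k K₀), ψ, ?_, ?_⟩
  · rw [← RingHom.comp_assoc, hψ]
    refine RingHom.ext fun c => ?_
    show IsLocalization.lift hu (algebraMap k K₀ c) = φ c
    rw [IsScalarTower.algebraMap_apply k (MvPolynomial (Fin s) k) K₀, IsLocalization.lift_eq]
    exact MvPolynomial.aeval_C v c
  · rw [AlgSpLib.trdeg_ringHom_comp]
    refine le_trans ?_ (le_add_right le_rfl)
    rw [show (algebraMap k K₀).toAlgebra = (inferInstance : Algebra k K₀) from Algebra.algebra_ext _ _ fun _ => rfl]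
    have h := (MvPolynomial.algebraicIndependent_X (Fin s) k).map' (f := IsScalarTower.toAlgHom k _ K₀)
      (IsFractionRing.injective (MvPolynomial (Fin s) k) K₀)
    simpa using h.lift_cardinalMk_le_trdeg

/-- The residue field of the strictly henselian ring at a point. -/
theorem trdeg_residue {k : Type u} [Field k] {Y : Scheme.{u}} (aY : Y ⟶ Spec (CommRingCat.of k)) (y : Y) (R : Type u)
    [CommRing R] [IsLocalRing R] [Algebra (Y.presheaf.stalk y) R] [IsLocalHom (algebraMap (Y.presheaf.stalk y) R)]
    [Hensel.IsStrictHenselization (Y.presheaf.stalk y) R] (φ : k →+* R)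
    (hφ : Spec.map (CommRingCat.ofHom φ) = Hens2.specOf Y y R ≫ aY) :
    @Algebra.trdeg k (IsLocalRing.ResidueField R) _ _ ((IsLocalRing.residue R).comp φ).toAlgebra =
      Dual3.resTrdeg aY y := by
  let pt : Spec (CommRingCat.of (IsLocalRing.ResidueField R)) := IsLocalRing.closedPoint _
  let i := Spec.map (CommRingCat.ofHom (IsLocalRing.residue R))
  haveI : IsClosedImmersion i := IsClosedImmersion.spec_of_surjective _ IsLocalRing.residue_surjective
  rw [← EdFibLib.resTrdeg_spec ((IsLocalRing.residue R).comp φ) pt, CommRingCat.ofHom_comp, Spec.map_comp, hφ,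
    AlgSpLib.resTrdeg_comp i, CycPushLib.trdeg_preimmersion_left i, add_zero, AlgSpLib.resTrdeg_comp,
    resTrdeg_specOf, add_zero]
  congr 1
  refine (congrArg (Hens2.specOf Y y R).base ?_).trans (EtStrictAcycLib.specOf_closedPoint Y y R)
  exact IsLocalRing.comap_closedPoint (IsLocalRing.residue R)

theorem cohDimLE_sepClosed (K : Type u) [Field K] [IsSepClosed K] : EtCoh.CohDimLE (Spec (CommRingCat.of K)) 0 :=
  haveI := CdFieldLib.isNoetherian_spec_field K
  CdFieldLib.cohDimLE_of_cdK fun p _ => CdFieldLib.cdK_sepClosed K p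

/-- Rational functions in an element of the maximal ideal. -/
theorem exists_ratFunc {k R Γ : Type u} [Field k] [IsSepClosed k] [CommRing R] [IsLocalRing R] [CommRing Γ]
    (ψ : k →+* R) (r : R) (hr : r ∈ IsLocalRing.maximalIdeal R) (σ : R →+* Γ) (hu : IsUnit (σ r)) :
    ∃ (K : Type u) (_ : Field K) (g : k →+* K) (ρ : K →+* Γ), ρ.comp g = σ.comp ψ ∧
      (1 : Cardinal.{u}) ≤ @Algebra.trdeg k K _ _ g.toAlgebra ∧ EtCoh.CohDimLE (Spec (CommRingCat.of K)) 1 := by
  let ev : Polynomial k →+* Γ := σ.comp (Polynomial.eval₂RingHom ψ r)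
  have hev : ∀ p : nonZeroDivisors (Polynomial k), IsUnit (ev p) := fun p => by
    obtain ⟨q, hq, hq'⟩ := Polynomial.exists_eq_pow_rootMultiplicity_mul_and_not_dvd (p : Polynomial k)
      (nonZeroDivisors.ne_zero p.2) 0
    rw [map_zero, sub_zero] at hq hq'
    rw [hq, map_mul, map_pow]
    refine IsUnit.mul (IsUnit.pow _ ?_) ?_
    · show IsUnit (σ (Polynomial.eval₂ ψ r Polynomial.X))
      rw [Polynomial.eval₂_X]
      exact hu
    · refine IsUnit.map σ ?_
      have h0 : q.coeff 0 ≠ 0 := fun h => hq' (Polynomial.X_dvd_iff.2 h)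
      by_contra hne
      have h1 : IsLocalRing.residue R (Polynomial.eval₂ ψ r q) = 0 := (IsLocalRing.residue_eq_zero_iff _).2 hne
      rw [Polynomial.hom_eval₂, (IsLocalRing.residue_eq_zero_iff _).2 hr, Polynomial.eval₂_at_zero] at h1
      exact h0 (((IsLocalRing.residue R).comp ψ).injective (h1.trans (map_zero _).symm))
  let K := FractionRing (Polynomial k)
  let ρ : K →+* Γ := IsLocalization.lift hev
  refine ⟨K, inferInstance, algebraMap k K, ρ, RingHom.ext fun c => ?_, ?_, ?_⟩
  · show IsLocalization.lift hev (algebraMap k K c) = σ (ψ c)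
    rw [IsScalarTower.algebraMap_apply k (Polynomial k) K, IsLocalization.lift_eq]
    exact congrArg σ (Polynomial.eval₂_C _ _)
  · rw [show (algebraMap k K).toAlgebra = (inferInstance : Algebra k K) from Algebra.algebra_ext _ _ fun _ => rfl]
    have h : AlgebraicIndependent k (fun _ : Fin 1 => algebraMap (Polynomial k) K Polynomial.X) :=
      (algebraicIndependent_unique_type_iff).2 ((transcendental_algebraMap_iff (IsFractionRing.injective (Polynomial k) K)).2 (Polynomial.transcendental_X k))
    simpa using h.lift_cardinalMk_le_trdeg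
  · haveI := CdFieldLib.isNoetherian_spec_field K
    exact CdFieldLib.cohDimLE_of_cdK fun p hp =>
      CdFieldLib.cdK_fractionRing_polynomial k hp.pos (CdFieldLib.cdK_sepClosed k p)

theorem toSpecΓ_map {W : Scheme.{u}} {R : Type u} [CommRing R] (u₀ : W ⟶ Spec (CommRingCat.of R)) :
    W.toSpecΓ ≫ Spec.map ((Scheme.ΓSpecIso (CommRingCat.of R)).inv ≫ u₀.appTop) = u₀ := by
  rw [Spec.map_comp, ← Category.assoc, ← Scheme.toSpecΓ_naturality, Category.assoc,
    toSpecΓ_SpecMap_ΓSpecIso_inv, Category.comp_id]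

end EtArtinLib
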