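import Groth.Agent.EtArtinLib.OpenImm
import Groth.Agent.EtArtinLib.Lift
import Groth.Agent.EtPBCCdLib.Main
import Groth.Agent.CycP1Lib.Coords
import Groth.Agent.PicPnLib.BaseChange
import Groth.Agent.ChowLib.Embed
import Groth.Agent.GenusZeroLib.PSpace

/-!
# The projection from the affine line over an affine base
-/

set_option autoImplicit false
set_option linter.all false
set_option backward.isDefEq.respectTransparency false
set_option backward.isDefEq.respectTransparency.types false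
set_option synthInstance.maxHeartbeats 400000
set_option maxHeartbeats 1000000

universe u

open CategoryTheory CategoryTheory.Limits CategoryTheory.Abelian AlgebraicGeometry Opposite
open Groth.Agent Groth.Agent.EtShLib EtPBCProperLib SkySumLib

attribute [local instance] EtSliceLib.pullExact

noncomputable section

namespace EtArtinLib

theorem notMem_of_mem_basicOpen {X : Scheme.{u}} {x : X} {U : X.Opens} (hx : x ∈ U) (t : Γ(X, U))
    (P : Spec (X.presheaf.stalk x)) (h : X.fromSpecStalk x P ∈ X.basicOpen t) :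
    (X.presheaf.germ U x hx).hom t ∉ P.asIdeal := by
  have h1 : P ∈ X.fromSpecStalk x ⁻¹ᵁ X.basicOpen t := h
  rw [Scheme.preimage_basicOpen, Scheme.fromSpecStalk_app hx, CommRingCat.comp_apply, CommRingCat.comp_apply,
    Scheme.basicOpen_res] at h1
  have h2 := h1.2
  rw [basicOpen_eq_of_affine] at h2
  exact h2

theorem fibreDim_toBase {Y : Scheme.{u}} (y : Y) :
    topologicalKrullDim ((CohB1.ProjSpaceOver.toBase 1 Y).fiber y) ≤ ((1 : ℕ) : WithBot ℕ∞) := by
  obtain ⟨j, hj, -⟩ := PicPnLib.exists_square 1 (Y.residueField y) (Y.fromSpecResidueField y)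
  refine le_of_eq ((IsHomeomorph.topologicalKrullDim_eq _ hj.isoPullback.hom.homeomorph.isHomeomorph).symm.trans ?_)
  exact GenusZeroLib.dim_projSpace (Y.residueField y) 1

variable {n : ℕ} (k : Type u) [Field k] [IsSepClosed k] {Y : Scheme.{u}} [IsAffine Y]
  (aY : Y ⟶ Spec (CommRingCat.of k)) [LocallyOfFiniteType aY]

theorem isAffineOpen_chart (i : Fin (1 + 1)) : IsAffineOpen (CycP1Lib.chartOpen Y i) := by
  haveI : IsAffineHom (specULiftZIsTerminal.from Y) := isAffineHom_of_isAffine _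
  haveI : IsAffineHom (ChowLib.toPZ 1 Y) := MorphismProperty.pullback_fst _ _ inferInstance
  exact (ChowLib.isAffineOpen_Dplus i).preimage (ChowLib.toPZ 1 Y)

/-- The affine line over the base inside the projective line. -/
abbrev chart (Y : Scheme.{u}) : (CohB1.ProjSpaceOver 1 Y).Opens := CycP1Lib.chartOpen Y (Fin.rev 0)

/-- Its structure map to the field. -/
abbrev chartStr : (chart Y : Scheme.{u}) ⟶ Spec (CommRingCat.of k) :=
  (chart Y).ι ≫ CohB1.ProjSpaceOver.toBase 1 Y ≫ aY

theorem isAffineHom_chartι : IsAffineHom (chart Y).ι := by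
  haveI : IsSeparated (CohB1.ProjSpaceOver.toBase 1 Y) := inferInstance
  haveI : IsAffine (chart Y : Scheme.{u}) := isAffineOpen_chart (Fin.rev 0)
  haveI : IsAffineHom ((chart Y).ι ≫ CohB1.ProjSpaceOver.toBase 1 Y) := isAffineHom_of_isAffine _
  exact MorphismProperty.of_postcomp (W := @IsAffineHom) (W' := @IsSeparated) (chart Y).ι
    (CohB1.ProjSpaceOver.toBase 1 Y) inferInstance inferInstance

variable (F : EtCoh.Ab (chart Y : Scheme.{u})) (hF : EtCoh.IsTorsion F)
  (hd : ∀ x ∈ EtPBC.supp F, topologicalKrullDim (closure ({x} : Set (chart Y : Scheme.{u}))) ≤ n)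

include k aY hF hd in
theorem isZero_Rpush_chartι (hn : 2 ≤ n) (hP : Artin.{u} (n - 1)) (b : ℕ) (hb : n < b) :
    IsZero ((EtCoh.Rpush (chart Y).ι b).obj F) := by
  refine isZero_of_stalks' _ fun Ω _ _ ξ => ?_
  by_cases hξ : ξ.base default ∈ chart Y
  · exact isZero_stk_Rpush_open _ F b (by omega) ξ (by rwa [Scheme.Opens.range_ι])
  haveI := isAffineHom_chartι (Y := Y)
  refine isZero_stk_Rpush (chart Y).ι F b ξ fun R _ _ _ _ _ => ?_
  let q := ξ.base default
  have hS : Hensel.IsStrictHenselization ((CohB1.ProjSpaceOver 1 Y).presheaf.stalk q) R := inferInstance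
  haveI := hS.henselian
  haveI : IsSepClosed (IsLocalRing.ResidueField R) := hS.isSepClosure.sep_closed
  have hq0 : q ∈ CycP1Lib.chartOpen Y 0 := (CycP1Lib.mem_or Y q 0).resolve_right hξ
  let aQ := CohB1.ProjSpaceOver.toBase 1 Y ≫ aY
  let g₁ := Hens2.specOf (CohB1.ProjSpaceOver 1 Y) q R
  obtain ⟨φ, hφ⟩ := Spec.map_surjective (g₁ ≫ aQ)
  obtain ⟨k', _, _, j, ψ, hψ⟩ := CdFieldLib.exists_sepClosed_lift k R φ.hom
  let tq := ((CohB1.ProjSpaceOver 1 Y).presheaf.germ _ q hq0).hom (CycP1Lib.t Y 0)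
  let r : R := algebraMap _ R tq
  have hr : r ∈ IsLocalRing.maximalIdeal R := by
    refine map_nonunit (algebraMap _ R) tq ?_
    rw [CycP1Lib.germ_t_mem_iff hq0, CycP1Lib.range_sect]
    exact hξ
  let W := pullback (chart Y).ι g₁
  let u₀ : W ⟶ Spec (CommRingCat.of R) := pullback.snd _ _
  let σ := (Scheme.ΓSpecIso (CommRingCat.of R)).inv ≫ u₀.appTop
  have hu : IsUnit (σ.hom r) := by
    refine W.toLocallyRingedSpace.toRingedSpace.isUnit_of_isUnit_germ ⊤ _ fun z hz => ?_
    have hc : g₁ (u₀ z) ∈ (CohB1.ProjSpaceOver 1 Y).basicOpen (CycP1Lib.t Y 0) := by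
      rw [CycP1Lib.basicOpen_t]
      have h1 : g₁ (u₀ z) = (chart Y).ι (pullback.fst (chart Y).ι g₁ z) := by
        rw [← Scheme.Hom.comp_apply, ← Scheme.Hom.comp_apply, pullback.condition]
      refine ⟨?_, h1 ▸ (pullback.fst (chart Y).ι g₁ z).2⟩
      have hsp : g₁ (u₀ z) ⤳ q := by
        have h2 := ((IsLocalRing.specializes_closedPoint (u₀ z : PrimeSpectrum R))).map g₁.continuous
        rwa [EtStrictAcycLib.specOf_closedPoint] at h2
      exact hsp.mem_open (CycP1Lib.chartOpen Y 0).2 hq0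
    have hP' : r ∉ (u₀ z : PrimeSpectrum R).asIdeal :=
      notMem_of_mem_basicOpen hq0 (CycP1Lib.t Y 0)
        (Spec.map (CommRingCat.ofHom (algebraMap ((CohB1.ProjSpaceOver 1 Y).presheaf.stalk q) R)) (u₀ z)) hc
    have hz' : z ∈ W.basicOpen (σ.hom r) := by
      show z ∈ W.basicOpen (u₀.appTop.hom ((Scheme.ΓSpecIso (CommRingCat.of R)).inv.hom r))
      rw [← Scheme.preimage_basicOpen_top, basicOpen_eq_of_affine]
      exact hP'
    exact (W.mem_basicOpen _ z hz).1 hz'
  obtain ⟨K, _, g, ρ, hρ, hK1, hKcd⟩ := exists_ratFunc ψ r hr σ.hom hu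
  refine subsingleton_fibre (chartStr k aY) aQ (chart Y).ι rfl q R hP hKcd (g.comp j)
    (W.toSpecΓ ≫ Spec.map (CommRingCat.ofHom ρ)) ?_ 1 ?_ F hF n hd (by omega) b (by omega)
  · rw [Category.assoc, ← Spec.map_comp, ← CommRingCat.ofHom_comp, ← RingHom.comp_assoc, hρ, RingHom.comp_assoc,
      hψ, CommRingCat.ofHom_comp, CommRingCat.ofHom_hom, CommRingCat.ofHom_hom, Spec.map_comp, ← Category.assoc,
      toSpecΓ_map u₀, hφ]
    exact pullback.condition_assoc _ |>.symm
  · rw [AlgSpLib.trdeg_ringHom_comp]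
    simpa using hK1.trans (le_add_left le_rfl)

include k aY hF hd in
theorem isZero_Rpush_proj (hn : 2 ≤ n) (hP : Artin.{u} (n - 1)) (q : ℕ) (hq : n < q) :
    IsZero ((EtCoh.Rpush ((chart Y).ι ≫ CohB1.ProjSpaceOver.toBase 1 Y) q).obj F) := by
  haveI := isAffineHom_chartι (Y := Y)
  let π := CohB1.ProjSpaceOver.toBase 1 Y
  haveI : (EtCoh.push π).Additive := { }
  haveI : (EtCoh.push (chart Y).ι).Additive := { }
  haveI : (EtCoh.push ((chart Y).ι ≫ π)).Additive := { }
  refine EtProperConsLib.prop_comp (EtCoh.push π) (IsZero (C := EtCoh.Ab Y)) (EtCoh.push (chart Y).ι)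
    (EtCoh.pushComp π (chart Y).ι) q fun a b hab => ?_
  rcases Nat.eq_zero_or_pos a with rfl | ha
  · exact Functor.map_isZero ((EtCoh.push π).rightDerived 0) (isZero_Rpush_chartι k aY F hF hd hn hP b (by omega))
  rcases Nat.eq_zero_or_pos b with rfl | hb
  · exact EtPBCCdLib.isZero_Rpush_of_fibre_dim π 1 fibreDim_toBase _ (EtShLib.isTorsion_rightDerived_push (f := (chart Y).ι) hF 0) a (by omega)
  · refine isZero_Rpush_of_section π (P1.sect Y 0) (CycP1Lib.sect_toBase 0) _ (fun Ω _ _ ξ hξ => ?_) a ha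
    refine isZero_stk_Rpush_open _ F b hb ξ ?_
    rw [Scheme.Opens.range_ι]
    by_contra h
    exact hξ (by rw [CycP1Lib.range_sect]; exact h)

end EtArtinLib
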