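import Groth.Agent.EtArtinLib.Trdeg
import Groth.Agent.EtPBCCdLib.Dim
import Groth.Agent.AlgSpLib.FibrePts
import Groth.Agent.EdFibLib.Space
import Groth.Agent.FibDimLib.ClosureDim
import Groth.Prelude.Def_PBC

/-!
# Dimensions of closures and residue transcendence degrees
-/

set_option autoImplicit false
set_option linter.all false
set_option backward.isDefEq.respectTransparency false
set_option backward.isDefEq.respectTransparency.types false
set_option synthInstance.maxHeartbeats 400000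
set_option maxHeartbeats 1000000

universe u

open CategoryTheory CategoryTheory.Limits AlgebraicGeometry

noncomputable section

namespace EtArtinLib

variable {k : Type u} [Field k] {X : Scheme.{u}} (a : X ⟶ Spec (CommRingCat.of k))

theorem closureDim_eq [LocallyOfFiniteType a] (x : X) :
    topologicalKrullDim (closure ({x} : Set X)) = ((Cardinal.toENat (Dual3.resTrdeg a x) : ℕ∞) : WithBot ℕ∞) := by
  haveI : Subsingleton ↥(Spec (CommRingCat.of k)) := inferInstanceAs (Subsingleton (PrimeSpectrum k))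
  have h0 : topologicalKrullDim (closure ({a x} : Set ↥(Spec (CommRingCat.of k)))) = 0 :=
    le_antisymm AlgSpLib.topologicalKrullDim_le_zero_of_subsingleton (EtPBCCdLib.zero_le_dim_closure _)
  rw [FibDimLib.topologicalKrullDim_closure_eq_add (𝟙 _) a x, h0, zero_add, AlgSpLib.fibreClosureDim_eq_resTrdeg]

theorem closureDim_le_iff [LocallyOfFiniteType a] (x : X) (m : ℕ) :
    topologicalKrullDim (closure ({x} : Set X)) ≤ (m : WithBot ℕ∞) ↔ Dual3.resTrdeg a x ≤ m := by
  rw [closureDim_eq a x]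
  refine Iff.trans ?_ Cardinal.toENat_le_natCast
  exact WithBot.coe_le_coe

theorem exists_closureDim [LocallyOfFiniteType a] (x : X) :
    ∃ s : ℕ, topologicalKrullDim (closure ({x} : Set X)) = s ∧ Dual3.resTrdeg a x = s := by
  have h : Dual3.resTrdeg a x < Cardinal.aleph0 := by
    by_contra hle
    push_neg at hle
    obtain ⟨U, hU, hxU⟩ : ∃ U : X.Opens, IsAffineOpen U ∧ x ∈ U := by
      obtain ⟨_, ⟨U, hU, rfl⟩, hxU, -⟩ :=
        X.isBasis_affineOpens.exists_subset_of_mem_open (Set.mem_univ x) isOpen_univ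
      exact ⟨U, hU, hxU⟩
    obtain ⟨φ, hφ⟩ : ∃ φ : CommRingCat.of k ⟶ Γ(X, U), Spec.map φ = hU.fromSpec ≫ a := Spec.map_surjective _
    letI := φ.hom.toAlgebra
    haveI : Algebra.FiniteType k Γ(X, U) := RingHom.finiteType_algebraMap.mp
      ((HasRingHomProperty.Spec_iff (P := @LocallyOfFiniteType)).mp
        (hφ ▸ (inferInstance : LocallyOfFiniteType (hU.fromSpec ≫ a))))
    obtain ⟨s, hs, -⟩ := FibDimLib.ringKrullDim_quotient_eq_trdeg (k := k) (hU.primeIdealOf ⟨x, hxU⟩).asIdeal
    have h1 := FibDimLib.topologicalKrullDim_closure_eq_affine a hU hxU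
    rw [closureDim_eq a x, hs, Cardinal.toENat_eq_top.2 hle] at h1
    exact absurd (WithBot.coe_inj.1 h1) (ENat.top_ne_coe s)
  obtain ⟨s, hs⟩ := Cardinal.lt_aleph0.1 h
  exact ⟨s, by rw [closureDim_eq a x, hs]; simp, hs⟩

theorem resTrdegLE_iff (x : X) (n : ℕ) : EtPBC.ResTrdegLE a x n ↔ Dual3.resTrdeg a x ≤ n := by
  have key : ∀ φ : k →+* X.residueField x, Spec.map (CommRingCat.ofHom φ) = X.fromSpecResidueField x ≫ a →
      @Algebra.trdeg k (X.residueField x) _ _ φ.toAlgebra = Dual3.resTrdeg a x := fun φ hφ => by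
    let pt : ↥(Spec (X.residueField x)) := IsLocalRing.closedPoint _
    have h1 : Dual3.resTrdeg (Spec.map (CommRingCat.ofHom φ)) pt = Dual3.resTrdeg (X.fromSpecResidueField x ≫ a) pt := by
      rw [hφ]
    rw [EdFibLib.resTrdeg_spec, AlgSpLib.resTrdeg_comp, CycPushLib.trdeg_preimmersion_left (X.fromSpecResidueField x), add_zero] at h1
    rw [h1, Scheme.fromSpecResidueField_apply]
  constructor
  · rintro ⟨φ, hφ, h⟩
    rw [← key φ hφ]
    exact h
  · intro h
    obtain ⟨φ, hφ⟩ := Spec.map_surjective (X.fromSpecResidueField x ≫ a)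
    exact ⟨φ.hom, hφ, (key φ.hom hφ).trans_le h⟩

/-- The tower formula over a field extension. -/
theorem resTrdeg_le_of_tower {K : Type u} [Field K] (g : k →+* K) {W : Scheme.{u}}
    (ψ : W ⟶ Spec (CommRingCat.of K)) {w : W} {n m s : ℕ}
    (hs : (s : Cardinal.{u}) ≤ @Algebra.trdeg k K _ _ g.toAlgebra)
    (hn : Dual3.resTrdeg (ψ ≫ Spec.map (CommRingCat.ofHom g)) w ≤ n) :
    s ≤ n ∧ (n ≤ m + s → Dual3.resTrdeg ψ w ≤ m) := by
  rw [AlgSpLib.resTrdeg_comp, EdFibLib.resTrdeg_spec] at hn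
  have h1 : (s : Cardinal.{u}) + Dual3.resTrdeg ψ w ≤ n := (add_le_add hs le_rfl).trans hn
  obtain ⟨c, hc⟩ := Cardinal.lt_aleph0.1 (((le_add_left le_rfl).trans h1).trans_lt (Cardinal.natCast_lt_aleph0 (n := n)))
  rw [hc] at h1 ⊢
  have h2 : s + c ≤ n := by exact_mod_cast h1
  exact ⟨by omega, fun h => by exact_mod_cast (show c ≤ m by omega)⟩

end EtArtinLib
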