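import Groth.Agent.EtArtinLib.Field
import Groth.Agent.S0540

/-!
# Cohomology of the pullbacks to strictly local schemes
-/

set_option autoImplicit false
set_option linter.all false
set_option backward.isDefEq.respectTransparency false
set_option backward.isDefEq.respectTransparency.types false
set_option synthInstance.maxHeartbeats 400000
set_option maxHeartbeats 1000000

universe u

open CategoryTheory CategoryTheory.Limits CategoryTheory.Abelian AlgebraicGeometry Opposite
open Groth.Agent Groth.Agent.EtShLib EtPBCProperLib SkySumLib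

attribute [local instance] EtSliceLib.pullExact

noncomputable section

namespace EtArtinLib

theorem isZero_of_stalks' {X : Scheme.{u}} (G : EtCoh.Ab X)
    (h : ∀ (Ω : Type u) [Field Ω] [IsSepClosed Ω] (ξ : Spec (CommRingCat.of Ω) ⟶ X),
      IsZero ((stk (A := AddCommGrpCat.{u + 1}) ξ).obj G)) : IsZero G := by
  haveI : IsIso (0 : G ⟶ G) := isIso_of_stalks (A := AddCommGrpCat.{u + 1}) _ fun Ω _ _ ξ =>
    ⟨0, (h Ω ξ).eq_of_src _ _, (h Ω ξ).eq_of_src _ _⟩
  rw [IsZero.iff_id_eq_zero, ← cancel_mono (0 : G ⟶ G)]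
  simp

theorem supp_pull_subset {X W : Scheme.{u}} (h : W ⟶ X) (F : EtCoh.Ab X) :
    EtPBC.supp ((EtCoh.pull h).obj F) ⊆ h.base ⁻¹' EtPBC.supp F :=
  supp_subset_of_stalk_zero fun Ω _ _ ξ hξ => IsZero.of_iso
    (isZero_stalk_of_notMem_supp (ξ ≫ h) hξ) ((stalkPull (A := AddCommGrpCat.{u + 1}) h ξ).app F).symm

theorem stable_closureDim_le {X : Scheme.{u}} (d : WithBot ℕ∞) :
    StableUnderSpecialization {x : X | topologicalKrullDim (closure ({x} : Set X)) ≤ d} := fun _ _ h hx =>
  le_trans ((Topology.IsEmbedding.inclusion h.closure_subset).isInducing.topologicalKrullDim_le) hx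

variable {k : Type u} [Field k] {X Y : Scheme.{u}} (aX : X ⟶ Spec (CommRingCat.of k))
  (aY : Y ⟶ Spec (CommRingCat.of k)) [LocallyOfFiniteType aX] [LocallyOfFiniteType aY]
  (f : X ⟶ Y) (w : f ≫ aY = aX) [IsAffineHom f] (y : Y) (R : Type u) [CommRing R]
  [IsLocalRing R] [Algebra (Y.presheaf.stalk y) R] [IsLocalHom (algebraMap (Y.presheaf.stalk y) R)]
  [Hensel.IsStrictHenselization (Y.presheaf.stalk y) R]

include aX aY w in
theorem isNoetherian_fibre : IsNoetherian (pullback f (Hens2.specOf Y y R)) := by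
  haveI : IsLocallyNoetherian Y := LocallyOfFiniteType.isLocallyNoetherian aY
  haveI : LocallyOfFiniteType f := by
    haveI : LocallyOfFiniteType (f ≫ aY) := by rw [w]; infer_instance
    exact locallyOfFiniteType_of_comp f aY
  haveI : IsNoetherianRing R := (Groth.Agent.S0540.result (Y.presheaf.stalk y) R).1 inferInstance
  exact { toIsLocallyNoetherian := LocallyOfFiniteType.isLocallyNoetherian (pullback.snd f (Hens2.specOf Y y R))
          toCompactSpace := QuasiCompact.compactSpace_of_compactSpace (pullback.snd f (Hens2.specOf Y y R)) }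

include aX aY w in
/-- Vanishing on the pullback to a strictly local scheme, over a subfield of transcendence degree at least `s`. -/
theorem subsingleton_fibre {m : ℕ} (hP : Artin.{u} m) {K : Type u} [Field K] {e : ℕ}
    (hK : EtCoh.CohDimLE (Spec (CommRingCat.of K)) e) (g : k →+* K)
    (ψ : pullback f (Hens2.specOf Y y R) ⟶ Spec (CommRingCat.of K))
    (hψ : ψ ≫ Spec.map (CommRingCat.ofHom g) = pullback.fst f (Hens2.specOf Y y R) ≫ aX)
    (s : ℕ) (hs : (s : Cardinal.{u}) ≤ @Algebra.trdeg k K _ _ g.toAlgebra)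
    (F : EtCoh.Ab X) (hF : EtCoh.IsTorsion F) (d : ℕ)
    (hd : ∀ x ∈ EtPBC.supp F, topologicalKrullDim (closure ({x} : Set X)) ≤ d) (hdm : d ≤ m + s)
    (q : ℕ) (hq : m + e < q) :
    Subsingleton (EtCoh.H (pullback f (Hens2.specOf Y y R))
      ((EtCoh.pull (pullback.fst f (Hens2.specOf Y y R))).obj F) q) := by
  let h := pullback.fst f (Hens2.specOf Y y R)
  haveI := isNoetherian_fibre aX aY f w y R
  haveI : IsAffine (pullback f (Hens2.specOf Y y R)) := isAffine_of_isAffineHom (pullback.snd f (Hens2.specOf Y y R))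
  refine subsingleton_H_of_support hP K hK ψ (h.base ⁻¹' {x : X | topologicalKrullDim (closure ({x} : Set X)) ≤ (d : WithBot ℕ∞)})
    ((stable_closureDim_le _).preimage h.continuous) (fun z hz => ?_) _ (CdCurveLib.isTorsion_pull_map h hF)
    (fun z hz => hd _ (supp_pull_subset h F hz)) q hq
  have h1 : Dual3.resTrdeg (ψ ≫ Spec.map (CommRingCat.ofHom g)) z ≤ d := by
    rw [hψ]
    exact (resTrdeg_fibre_le aX aY f w y R z).trans ((closureDim_le_iff aX _ d).1 hz)
  exact (resTrdeg_le_of_tower g ψ hs h1).2 hdm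

include aX aY w in
/-- The sheaf vanishes on the pullback when its support is too small. -/
theorem isZero_fibre {K : Type u} [Field K] (g : k →+* K)
    (ψ : pullback f (Hens2.specOf Y y R) ⟶ Spec (CommRingCat.of K))
    (hψ : ψ ≫ Spec.map (CommRingCat.ofHom g) = pullback.fst f (Hens2.specOf Y y R) ≫ aX)
    (s : ℕ) (hs : (s : Cardinal.{u}) ≤ @Algebra.trdeg k K _ _ g.toAlgebra)
    (F : EtCoh.Ab X) (d : ℕ)
    (hd : ∀ x ∈ EtPBC.supp F, topologicalKrullDim (closure ({x} : Set X)) ≤ d) (hds : d < s) :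
    IsZero ((EtCoh.pull (pullback.fst f (Hens2.specOf Y y R))).obj F) := by
  refine isZero_of_stalks' _ fun Ω _ _ ξ => isZero_stalk_of_notMem_supp ξ fun hz => ?_
  have h1 : Dual3.resTrdeg (ψ ≫ Spec.map (CommRingCat.ofHom g)) (ξ.base default) ≤ d := by
    rw [hψ]
    exact (resTrdeg_fibre_le aX aY f w y R _).trans
      ((closureDim_le_iff aX _ d).1 (hd _ (supp_pull_subset _ F hz)))
  exact absurd (resTrdeg_le_of_tower (m := 0) g ψ hs h1).1 (by omega)

end EtArtinLib
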