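import Groth.Agent.EtArtinLib.Dim
import Groth.Agent.CdLerayBoundLib.Basic
import Groth.Agent.CdFieldLib.Curve
import Groth.Agent.EtPBCCdLib.Main
import Groth.Agent.PTorsCdLib.Main
import Groth.Agent.EtShLib.SuppColim
import Groth.Agent.S0149

/-!
# Affine schemes over a field: from separably closed fields to arbitrary ones, algebras, supports
-/

set_option autoImplicit false
set_option linter.all false
set_option backward.isDefEq.respectTransparency false
set_option backward.isDefEq.respectTransparency.types false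
set_option synthInstance.maxHeartbeats 400000
set_option maxHeartbeats 1000000

universe u

open CategoryTheory CategoryTheory.Limits CategoryTheory.Abelian AlgebraicGeometry Opposite
open Groth.Agent Groth.Agent.EtShLib EtPBCProperLib SkySumLib

attribute [local instance] EtSliceLib.pullExact

noncomputable section

namespace EtArtinLib

/-- Artin vanishing in dimension at most `n` over separably closed fields. -/
def Artin (n : ℕ) : Prop :=
  ∀ (k : Type u) [Field k] [IsSepClosed k] (X : Scheme.{u}) [IsAffine X] (f : X ⟶ Spec (CommRingCat.of k))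
    [LocallyOfFiniteType f], topologicalKrullDim X ≤ n → EtCoh.CohDimLE X n

/-- Affine schemes of finite type over a field of bounded dimension. -/
theorem cohDimLE_ft {n : ℕ} (hP : Artin.{u} n) (K : Type u) [Field K] {e : ℕ}
    (hK : EtCoh.CohDimLE (Spec (CommRingCat.of K)) e) {U : Scheme.{u}} [IsAffine U]
    (f : U ⟶ Spec (CommRingCat.of K)) [LocallyOfFiniteType f] (hdim : topologicalKrullDim U ≤ n) :
    EtCoh.CohDimLE U (n + e) := by
  intro F hF q hq
  haveI : QuasiCompact f := inferInstance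
  haveI : QuasiSeparated f := inferInstance
  refine CdLerayBoundLib.subsingleton_H_of_Rpush f e n F (fun j hj => ?_)
    (fun j _ m hm => hK _ (EtShLib.isTorsion_rightDerived_push (f := f) hF j) m hm) q hq
  refine isZero_of_geomPt_stalks _ fun y => ?_
  let R := HenselLib.SH ((Spec (CommRingCat.of K)).presheaf.stalk y)
  have hS : Hensel.IsStrictHenselization ((Spec (CommRingCat.of K)).presheaf.stalk y) R := inferInstance
  haveI := hS.henselian
  haveI hsep : IsSepClosed (IsLocalRing.ResidueField R) := hS.isSepClosure.sep_closed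
  refine ⟨R, inferInstance, inferInstance, inferInstance, inferInstance, inferInstance, ?_⟩
  obtain ⟨i⟩ := Groth.Agent.S0620.result f F y R j
  refine i.addCommGroupIsoToAddEquiv.toEquiv.subsingleton_congr.2 ?_
  have hR0 : IsField R := CdFieldLib.isField_strictHenselization _ R (CdFieldLib.isField_stalk y)
  obtain ⟨φ, hφ⟩ := Spec.map_surjective (Hens2.specOf (Spec (CommRingCat.of K)) y R)
  let Fd : Field R := hR0.toField
  haveI : IsSepClosed R := @CdFieldLib.isSepClosed_of_isField R Fd hsep
  letI : Algebra K R := φ.hom.toAlgebra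
  let v := Hens2.specOf (Spec (CommRingCat.of K)) y R
  haveI : IsAffine (pullback f v) := inferInstance
  have hd : topologicalKrullDim ↑(pullback f v) ≤ n := by
    rw [show v = Spec.map φ from hφ.symm]
    exact (FibDimLib.topologicalKrullDim_pullback_field K R f).trans_le hdim
  exact hP R (pullback f v) (pullback.snd f v) hd _ (CdCurveLib.isTorsion_pull_map _ hF) j hj

theorem dim_closure_le {n : ℕ} {K : Type u} [Field K] {A : Type u} [CommRing A] [Algebra K A]
    (B : Subalgebra K A) {W : Scheme.{u}} (ew : W ≅ Spec (CommRingCat.of A)) (ψ : W ⟶ Spec (CommRingCat.of K))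
    (hψ : ew.hom ≫ Spec.map (CommRingCat.ofHom (algebraMap K A)) = ψ)
    (hW : ∀ w : W, Dual3.resTrdeg ψ w ≤ n)
    (t : Spec (CommRingCat.of B) ⟶ Spec (CommRingCat.of K)) [LocallyOfFiniteType t]
    (ht : t = Spec.map (CommRingCat.ofHom (algebraMap K B))) (x : Spec (CommRingCat.of B)) :
    topologicalKrullDim (closure ({x} : Set ↥(Spec (CommRingCat.of B)))) ≤ n := by
  let ι : Spec (CommRingCat.of A) ⟶ Spec (CommRingCat.of B) := Spec.map (CommRingCat.ofHom B.val.toRingHom)
  have hπ : (ew.hom ≫ ι) ≫ t = ψ := by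
    rw [ht, ← hψ, Category.assoc, ← Spec.map_comp]
    rfl
  obtain ⟨p, hp, hpx⟩ := Ideal.exists_minimalPrimes_le (I := (⊥ : Ideal B)) (J := (x : PrimeSpectrum B).asIdeal) bot_le
  obtain ⟨Q, hQ, hQp⟩ := Ideal.exists_comap_eq_of_mem_minimalPrimes_of_injective
    (f := B.val.toRingHom) Subtype.val_injective p hp
  let z : Spec (CommRingCat.of B) := (⟨p, hp.1.1⟩ : PrimeSpectrum B)
  let w : W := ew.inv (⟨Q, hQ⟩ : PrimeSpectrum A)
  have hwz : (ew.hom ≫ ι) w = z := by
    rw [← Scheme.Hom.comp_apply, Iso.inv_hom_id_assoc]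
    exact PrimeSpectrum.ext hQp
  have hzx : z ⤳ x := (PrimeSpectrum.le_iff_specializes (R := B) z x).1 hpx
  refine le_trans ((Topology.IsEmbedding.inclusion (hzx.closure_subset)).isInducing.topologicalKrullDim_le) ?_
  refine (closureDim_le_iff t z n).2 ?_
  have h1 := hW w
  rw [← hπ, AlgSpLib.resTrdeg_comp (ew.hom ≫ ι) t, hwz] at h1
  exact (le_add_right le_rfl).trans h1

/-- The spectrum of an algebra all of whose residue fields have bounded transcendence degree. -/
theorem cohDimLE_spec {n : ℕ} (hP : Artin.{u} n) (K : Type u) [Field K] {e : ℕ}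
    (hK : EtCoh.CohDimLE (Spec (CommRingCat.of K)) e) (A : Type u) [CommRing A] [Algebra K A]
    {W : Scheme.{u}} (ew : W ≅ Spec (CommRingCat.of A)) (ψ : W ⟶ Spec (CommRingCat.of K))
    (hψ : ew.hom ≫ Spec.map (CommRingCat.ofHom (algebraMap K A)) = ψ)
    (hW : ∀ w : W, Dual3.resTrdeg ψ w ≤ n) : EtCoh.CohDimLE W (n + e) := by
  let S := ConsLib.fgSys K A (Iso.refl (Spec (CommRingCat.of K)))
  haveI : ∀ {i j : (ConsLib.FGSub K A)ᵒᵖ} (a : i ⟶ j), IsAffineHom (S.D.map a) := fun a => S.affine_map a
  haveI : ∀ i, CompactSpace (S.D.obj i) := S.compactSpace_obj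
  haveI : ∀ i, QuasiSeparatedSpace (S.D.obj i) := S.quasiSeparatedSpace_obj
  refine Groth.Agent.S0149.result S.D (S.c.extend ew.hom) (S.hc.extendIso ew.hom) (n + e) fun i => ?_
  haveI : IsAffine (S.D.obj i) := inferInstanceAs (IsAffine (Spec (CommRingCat.of i.unop.1)))
  haveI := ConsLib.locallyOfFiniteType_fgSys_t K A (Iso.refl (Spec (CommRingCat.of K))) i
  refine cohDimLE_ft hP K hK (S.t i) (FibDimLib.topologicalKrullDim_le_of_points fun x => ?_)
  exact dim_closure_le i.unop.1 ew ψ hψ hW (S.t i) (by exact Category.comp_id _) x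

theorem cohDimLE_algebra {n : ℕ} (hP : Artin.{u} n) (K : Type u) [Field K] {e : ℕ}
    (hK : EtCoh.CohDimLE (Spec (CommRingCat.of K)) e) {W : Scheme.{u}} [IsAffine W]
    (ψ : W ⟶ Spec (CommRingCat.of K)) (hW : ∀ w : W, Dual3.resTrdeg ψ w ≤ n) :
    EtCoh.CohDimLE W (n + e) := by
  obtain ⟨φ, hφ⟩ := Spec.map_surjective (W.isoSpec.inv ≫ ψ)
  exact @cohDimLE_spec n hP K _ e hK Γ(W, ⊤) _ φ.hom.toAlgebra W W.isoSpec ψ ((Iso.eq_inv_comp _).1 hφ) hW

/-- Vanishing for sheaves with small support. -/
theorem subsingleton_H_of_support {n : ℕ} (hP : Artin.{u} n) (K : Type u) [Field K] {e : ℕ}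
    (hK : EtCoh.CohDimLE (Spec (CommRingCat.of K)) e) {W : Scheme.{u}} [IsAffine W] [IsNoetherian W]
    (ψ : W ⟶ Spec (CommRingCat.of K)) (E : Set W) (hE : StableUnderSpecialization E)
    (hb : ∀ w ∈ E, Dual3.resTrdeg ψ w ≤ n) (F : EtCoh.Ab W) (hF : EtCoh.IsTorsion F)
    (hsupp : EtPBC.supp F ⊆ E) (q : ℕ) (hq : n + e < q) : Subsingleton (EtCoh.H W F q) := by
  refine subsingleton_of_forall_eq 0 fun x => ?_
  obtain ⟨I, ι, _, hI, z, rfl⟩ := PTorsCdLib.exists_cons_sub F (torsionBy_of_isTorsion hF) q x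
  let Z : Scheme.{u} := (Scheme.IdealSheafData.vanishingIdeal
    (⟨closure (EtPBC.supp I), isClosed_closure⟩ : TopologicalSpace.Closeds W)).subscheme
  let i : Z ⟶ W := (Scheme.IdealSheafData.vanishingIdeal
    (⟨closure (EtPBC.supp I), isClosed_closure⟩ : TopologicalSpace.Closeds W)).subschemeι
  have hi : Set.range i.base = closure (EtPBC.supp I) := by
    rw [Scheme.IdealSheafData.range_subschemeι, Scheme.IdealSheafData.coe_support_vanishingIdeal]
    rfl
  haveI : IsAffine Z := isAffine_of_isAffineHom i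
  have hZ : EtCoh.CohDimLE Z (n + e) := cohDimLE_algebra hP K hK (i ≫ ψ) fun w => by
    have hw : i w ∈ E := by
      have h1 : i.base w ∈ closure (EtPBC.supp I) := hi ▸ ⟨w, rfl⟩
      obtain ⟨y, hy, hyx⟩ := exists_specializes_supp hI h1
      exact hE hyx (hsupp (supp_subset_of_mono ι hy))
    rw [AlgSpLib.resTrdeg_comp, CycPushLib.trdeg_preimmersion_left i, add_zero]
    exact hb _ hw
  haveI : Subsingleton (EtCoh.H W I q) := by
    refine EtPBCCdLib.subsingleton_H_of_supported i I (fun Ω _ _ ξ hξ => isZero_stalk_of_notMem_supp ξ fun h => hξ ?_)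
      q (hZ _ (CdCurveLib.isTorsion_pull_map i (isTorsion_of_torsionBy ((torsionBy_of_isTorsion hF).of_mono ι))) q hq)
    rw [hi]
    exact subset_closure h
  rw [Subsingleton.elim (α := EtCoh.H W I q) z 0, Ext.zero_comp]

end EtArtinLib
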