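import Groth.Agent.EtArtinLib.LocalDim

/-!
# Affine Lefschetz over strict localizations
-/

set_option autoImplicit false
set_option linter.all false
set_option backward.isDefEq.respectTransparency false
set_option backward.isDefEq.respectTransparency.types false
set_option synthInstance.maxHeartbeats 400000
set_option maxHeartbeats 1000000

universe u

open CategoryTheory CategoryTheory.Limits AlgebraicGeometry Opposite
open Groth.Agent Groth.Agent.EtShLib

noncomputable section

namespace EtArtinLib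

theorem resTrdeg_prime (K A : Type u) [Field K] [CommRing A] [Algebra K A] (Q : PrimeSpectrum A) :
    Dual3.resTrdeg (Spec.map (CommRingCat.ofHom (algebraMap K A))) Q = Algebra.trdeg K (A ⧸ Q.asIdeal) := by
  let L := Q.asIdeal.ResidueField
  haveI := DeltaFFLib.isPreimmersion_residueField Q
  let i := Spec.map (CommRingCat.ofHom (algebraMap A L))
  let pt : Spec (CommRingCat.of L) := IsLocalRing.closedPoint L
  have hpt : i pt = Q := PrimeSpectrum.ext (by
    show (IsLocalRing.maximalIdeal L).comap (algebraMap A L) = Q.asIdeal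
    rw [IsLocalRing.maximalIdeal_eq_bot, ← RingHom.ker_eq_comap_bot]
    exact Ideal.ker_algebraMap_residueField _)
  have h : @Algebra.trdeg K L _ _ ((algebraMap A L).comp (algebraMap K A)).toAlgebra =
      Dual3.resTrdeg (Spec.map (CommRingCat.ofHom (algebraMap K A))) Q := by
    rw [← EdFibLib.resTrdeg_spec ((algebraMap A L).comp (algebraMap K A)) pt, CommRingCat.ofHom_comp, Spec.map_comp,
      AlgSpLib.resTrdeg_comp i, CycPushLib.trdeg_preimmersion_left i, add_zero, hpt]
  rw [← h, show ((algebraMap A L).comp (algebraMap K A)).toAlgebra = (inferInstance : Algebra K L) from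
    Algebra.algebra_ext _ _ fun r => (IsScalarTower.algebraMap_apply K A L r).symm]
  haveI : Algebra.IsAlgebraic (A ⧸ Q.asIdeal) L := IsLocalization.isAlgebraic _ (nonZeroDivisors (A ⧸ Q.asIdeal))
  rw [← trdeg_add_eq K (A ⧸ Q.asIdeal) (A := L), trdeg_eq_zero (R := A ⧸ Q.asIdeal) (A := L), add_zero]

/-- Residue degrees decrease under specialization on an affine scheme over a field. -/
theorem stable_resTrdeg_le {K : Type u} [Field K] {W : Scheme.{u}} [IsAffine W] (ψ : W ⟶ Spec (CommRingCat.of K))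
    (n : ℕ) : StableUnderSpecialization {w : W | Dual3.resTrdeg ψ w ≤ n} := by
  obtain ⟨φ, hφ⟩ := Spec.map_surjective (W.isoSpec.inv ≫ ψ)
  letI := φ.hom.toAlgebra
  have key : ∀ v : Spec (CommRingCat.of Γ(W, ⊤)), Dual3.resTrdeg ψ (W.isoSpec.inv v) =
      Algebra.trdeg K (Γ(W, ⊤) ⧸ (v : PrimeSpectrum Γ(W, ⊤)).asIdeal) := fun v => by
    have h := AlgSpLib.resTrdeg_comp W.isoSpec.inv ψ v
    rw [← hφ, CycPushLib.trdeg_preimmersion_left W.isoSpec.inv, add_zero] at h
    rw [← h]
    exact resTrdeg_prime K Γ(W, ⊤) v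
  intro w w' hsp hw
  obtain ⟨v, rfl⟩ := W.isoSpec.inv.homeomorph.surjective w
  obtain ⟨v', rfl⟩ := W.isoSpec.inv.homeomorph.surjective w'
  have hvv : (v : PrimeSpectrum Γ(W, ⊤)).asIdeal ≤ (v' : PrimeSpectrum Γ(W, ⊤)).asIdeal :=
    (PrimeSpectrum.le_iff_specializes (R := Γ(W, ⊤)) v v').2 (W.isoSpec.inv.isEmbedding.isInducing.specializes_iff.1 hsp)
  refine le_trans (le_of_eq (key v')) (le_trans ?_ ((key v).symm.trans_le hw))
  exact trdeg_le_of_surjective (Ideal.Quotient.factorₐ K hvv) (Ideal.Quotient.factor_surjective hvv)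

/-- Affine Lefschetz over a strict localization of an algebraic scheme. -/
theorem subsingleton_H_strictLocal {k : Type u} [Field k] {Y : Scheme.{u}} (g : Y ⟶ Spec (CommRingCat.of k))
    [LocallyOfFiniteType g] (y : Y) (R : Type u) [CommRing R] [IsLocalRing R] [Algebra (Y.presheaf.stalk y) R]
    [IsLocalHom (algebraMap (Y.presheaf.stalk y) R)] [Hensel.IsStrictHenselization (Y.presheaf.stalk y) R]
    {W : Scheme.{u}} (f : W ⟶ Spec (CommRingCat.of R)) [IsAffineHom f] [LocallyOfFiniteType f]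
    (F : EtCoh.Ab W) (hF : EtCoh.IsTorsion F) (d : ℕ)
    (hδ : ∀ x ∈ EtPBC.supp F, ∃ a b : ℕ, ringKrullDim (R ⧸ (f.base x).asIdeal) ≤ a ∧
      Dual3.resTrdeg f x ≤ b ∧ a + b ≤ d) (q : ℕ) (hq : d < q) : Subsingleton (EtCoh.H W F q) := by
  have hS : Hensel.IsStrictHenselization (Y.presheaf.stalk y) R := inferInstance
  haveI := hS.henselian
  haveI : IsSepClosed (IsLocalRing.ResidueField R) := hS.isSepClosure.sep_closed
  haveI : IsLocallyNoetherian Y := LocallyOfFiniteType.isLocallyNoetherian g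
  haveI : IsNoetherianRing R := (Groth.Agent.S0540.result (Y.presheaf.stalk y) R).1 inferInstance
  haveI : IsAffine W := isAffine_of_isAffineHom f
  haveI : IsNoetherian W :=
    { toIsLocallyNoetherian := LocallyOfFiniteType.isLocallyNoetherian f
      toCompactSpace := QuasiCompact.compactSpace_of_compactSpace f }
  obtain ⟨φ, hφ⟩ := Spec.map_surjective (Hens2.specOf Y y R ≫ g)
  obtain ⟨s, -, hs⟩ := exists_closureDim g y
  obtain ⟨K, _, _, j, ψ, hψ, hsK⟩ := exists_sepClosed_residual k R φ.hom s (by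
    rw [trdeg_residue g y R φ.hom hφ, hs])
  let ψW := f ≫ Spec.map (CommRingCat.ofHom ψ)
  have hbase : ψW ≫ Spec.map (CommRingCat.ofHom j) = f ≫ Hens2.specOf Y y R ≫ g := by
    rw [Category.assoc, ← Spec.map_comp, ← CommRingCat.ofHom_comp, hψ, CommRingCat.ofHom_hom, hφ]
  refine subsingleton_H_of_support (artin d) K (cohDimLE_sepClosed K) ψW
    {w : W | Dual3.resTrdeg (f ≫ Hens2.specOf Y y R ≫ g) w ≤ ((d + s : ℕ) : Cardinal.{u})}
    (stable_resTrdeg_le _ _) (fun w hw => ?_) F hF (fun x hx => ?_) q (by omega)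
  · refine (resTrdeg_le_of_tower j ψW hsK (n := d + s) ?_).2 (le_refl _)
    rw [hbase]
    exact hw
  · obtain ⟨a, b, ha, hb, hab⟩ := hδ x hx
    show Dual3.resTrdeg _ x ≤ _
    rw [AlgSpLib.resTrdeg_comp f, AlgSpLib.resTrdeg_comp (Hens2.specOf Y y R) g, resTrdeg_specOf, add_zero]
    refine (add_le_add (resTrdeg_le_add g y R (f x) s a hs ha) hb).trans ?_
    exact_mod_cast (show s + a + b ≤ d + s by omega)

end EtArtinLib
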