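import Groth.Agent.EtArtinLib.Main
import Groth.Agent.CdFieldLib.Delta
import Groth.Agent.AlgSpLib.ReducedStalk
import Groth.Agent.S0736
import Groth.Agent.S12237

/-!
# Branch dimensions in strict localizations of algebraic schemes
-/

set_option autoImplicit false
set_option linter.all false
set_option backward.isDefEq.respectTransparency false
set_option backward.isDefEq.respectTransparency.types false
set_option synthInstance.maxHeartbeats 400000
set_option maxHeartbeats 1000000

universe u

open CategoryTheory CategoryTheory.Limits AlgebraicGeometry Opposite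
open TopologicalSpace
open Groth.Agent Groth.Agent.EtShLib EtRpushStalkLib

noncomputable section

namespace EtArtinLib

/-- Going down from a prime isolated in its fibre. -/
theorem dim_le_quotient {B R : Type u} [CommRing B] [CommRing R] [IsLocalRing B] [IsLocalRing R]
    (φ : B →+* R) [IsLocalHom φ] (hflat : φ.Flat) (P : Ideal R) [P.IsPrime]
    (hP : ∀ w : Ideal R, w.IsPrime → w.comap φ = P.comap φ → P ≤ w) :
    ringKrullDim (B ⧸ P.comap φ) ≤ ringKrullDim (R ⧸ P) := by
  letI := φ.toAlgebra
  haveI : IsLocalHom (algebraMap B R) := ‹IsLocalHom φ›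
  haveI : Module.Flat B R := hflat
  haveI : Algebra.HasGoingDown B R := Algebra.HasGoingDown.of_flat
  let p := P.comap φ
  refine iSup_le fun l₀ => ?_
  let l : LTSeries (PrimeSpectrum B) := l₀.map (PrimeSpectrum.comap (Ideal.Quotient.mk p))
    (fun a b h => lt_of_le_of_ne (Ideal.comap_mono h.le) fun e => h.ne (PrimeSpectrum.ext
      (Ideal.comap_injective_of_surjective _ Ideal.Quotient.mk_surjective (congrArg PrimeSpectrum.asIdeal e))))
  have hpl : p ≤ l.head.asIdeal := fun a ha => by
    show Ideal.Quotient.mk p a ∈ l₀.head.asIdeal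
    rw [Ideal.Quotient.eq_zero_iff_mem.2 ha]
    exact zero_mem _
  haveI : (IsLocalRing.maximalIdeal R).LiesOver (IsLocalRing.maximalIdeal B) :=
    ⟨(IsLocalRing.maximalIdeal_comap (algebraMap B R)).symm⟩
  obtain ⟨Q, -, hQ, hQl⟩ := Ideal.exists_ideal_le_liesOver_of_le (IsLocalRing.maximalIdeal R)
    (IsLocalRing.le_maximalIdeal l.last.2.ne_top)
  haveI := hQ
  haveI := hQl
  obtain ⟨L, hL, -, hmap⟩ := Ideal.exists_ltSeries_of_hasGoingDown l Q
  have hhead : PrimeSpectrum.comap (algebraMap B R) L.head = l.head := by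
    have h := congrArg List.head? hmap
    rw [List.head?_map, List.head?_eq_some_head L.toList_ne_nil, List.head?_eq_some_head l.toList_ne_nil,
      RelSeries.head_toList, RelSeries.head_toList, Option.map_some, Option.some.injEq] at h
    exact h
  haveI : L.head.asIdeal.LiesOver l.head.asIdeal := ⟨(congrArg PrimeSpectrum.asIdeal hhead).symm⟩
  haveI : p.IsPrime := inferInstanceAs (P.comap φ).IsPrime
  obtain ⟨w, hw, hwp, hwo⟩ := Ideal.exists_ideal_le_liesOver_of_le (p := p) L.head.asIdeal hpl
  have hPi : ∀ i, P ≤ (L.toFun i).asIdeal := fun i =>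
    ((hP w hwp hwo.over.symm).trans hw).trans (L.monotone (Fin.zero_le i))
  let M : LTSeries (PrimeSpectrum (R ⧸ P)) :=
    { length := L.length
      toFun := fun i => ⟨(L.toFun i).asIdeal.map (Ideal.Quotient.mk P),
        Ideal.map_isPrime_of_surjective Ideal.Quotient.mk_surjective (by rw [Ideal.mk_ker]; exact hPi i)⟩
      step := fun i => by
        show Ideal.map _ _ < Ideal.map _ _
        refine lt_of_le_of_ne (Ideal.map_mono (le_of_lt (L.step i))) fun h => ne_of_lt (show L.toFun i.castSucc < L.toFun i.succ from L.step i) ?_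
        have h' := congrArg (Ideal.comap (Ideal.Quotient.mk P)) h
        rw [Ideal.comap_map_of_surjective _ Ideal.Quotient.mk_surjective,
          Ideal.comap_map_of_surjective _ Ideal.Quotient.mk_surjective, ← RingHom.ker_eq_comap_bot, Ideal.mk_ker,
          sup_eq_left.mpr (hPi _), sup_eq_left.mpr (hPi _)] at h'
        exact PrimeSpectrum.ext h' }
  exact le_iSup_of_le M (le_of_eq (by show ((l.length : ℕ∞) : WithBot ℕ∞) = ((L.length : ℕ∞) : WithBot ℕ∞); rw [hL]))

/-- The residue degree on a branch of the strict localization is bounded by its dimension. -/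
theorem resTrdeg_le_add {k : Type u} [Field k] {Y : Scheme.{u}} (g : Y ⟶ Spec (CommRingCat.of k))
    [LocallyOfFiniteType g] (y : Y) (R : Type u) [CommRing R] [IsLocalRing R] [Algebra (Y.presheaf.stalk y) R]
    [IsLocalHom (algebraMap (Y.presheaf.stalk y) R)] [Hensel.IsStrictHenselization (Y.presheaf.stalk y) R]
    (P : Spec (CommRingCat.of R)) (s a : ℕ) (hs : Dual3.resTrdeg g y = s) (ha : ringKrullDim (R ⧸ P.asIdeal) ≤ a) :
    Dual3.resTrdeg g (Hens2.specOf Y y R P) ≤ ((s + a : ℕ) : Cardinal.{u}) := by
  have hS : Hensel.IsStrictHenselization (Y.presheaf.stalk y) R := inferInstance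
  haveI := hS.henselian
  haveI : IsSepClosed (IsLocalRing.ResidueField R) := hS.isSepClosure.sep_closed
  haveI : IsLocallyNoetherian Y := LocallyOfFiniteType.isLocallyNoetherian g
  haveI : IsNoetherianRing R := (Groth.Agent.S0540.result (Y.presheaf.stalk y) R).1 inferInstance
  obtain ⟨C⟩ := exists_chart y R
  haveI : ∀ {i j : C.I} (a : i ⟶ j), IsAffineHom ((undl C.DS).map a) := fun {i j} a =>
    haveI : IsAffine ((undl C.DS).obj i) := C.aff i
    haveI : IsAffine ((undl C.DS).obj j) := C.aff j
    isAffineHom_of_isAffine _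
  haveI : ∀ i, CompactSpace ((undl C.DS).obj i) := fun i =>
    haveI : IsAffine ((undl C.DS).obj i) := C.aff i
    inferInstance
  haveI : ∀ i, QuasiSeparatedSpace ((undl C.DS).obj i) := fun i =>
    haveI : IsAffine ((undl C.DS).obj i) := C.aff i
    inferInstance
  haveI : NoetherianSpace ↥(Spec (CommRingCat.of R)) := inferInstanceAs (NoetherianSpace (PrimeSpectrum R))
  let U : (Spec (CommRingCat.of R)).Opens := ⟨(closure ({P} : Set ↥(Spec (CommRingCat.of R))))ᶜ, isClosed_closure.isOpen_compl⟩
  obtain ⟨j, W, -, hW⟩ := exists_preimage_eq (undl C.DS) C.cone C.hc U (NoetherianSpace.isCompact _)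
  let V := (C.DS.obj j).left
  haveI : AlgebraicGeometry.Etale (C.DS.obj j).hom := (C.DS.obj j).prop
  haveI := EtShLib.locallyQuasiFinite_of_etale (C.DS.obj j).hom
  let g' : V ⟶ Spec (CommRingCat.of k) := (C.DS.obj j).hom ≫ g
  haveI : LocallyOfFiniteType g' := inferInstance
  let π : Spec (CommRingCat.of R) ⟶ V := C.π j
  have htr : ∀ q, Dual3.resTrdeg g' (π q) = Dual3.resTrdeg g (Hens2.specOf Y y R q) := fun q => by
    rw [AlgSpLib.resTrdeg_comp, AlgSpLib.resTrdeg_eq_zero_of_lqf (C.DS.obj j).hom, add_zero, ← Scheme.Hom.comp_apply, C.w j]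
    rfl
  let c : Spec (CommRingCat.of R) := IsLocalRing.closedPoint R
  have hv : Dual3.resTrdeg g' (π c) = s := by
    rw [htr, ← hs]
    exact congrArg (Dual3.resTrdeg g) (EtStrictAcycLib.specOf_closedPoint Y y R)
  obtain ⟨e, he, he'⟩ := exists_closureDim g' (π P)
  rw [← htr, he']
  suffices e ≤ s + a by exact_mod_cast this
  have hdv : CdFieldLib.delta g' (π c) = s := by
    have h1 := CdFieldLib.delta_spec g' (π c)
    rw [closureDim_eq g' (π c), hv] at h1
    simp at h1
    exact_mod_cast h1.symm
  have hdz : CdFieldLib.delta g' (π P) = e := by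
    have h1 := CdFieldLib.delta_spec g' (π P)
    rw [he] at h1
    exact_mod_cast h1.symm
  have hsp : π P ⤳ π c := (IsLocalRing.specializes_closedPoint (P : PrimeSpectrum R)).map π.continuous
  have hadd := CdFieldLib.delta_eq_add g' (π P) (π c) hsp
  rw [hdv, hdz, ← CycDivLib.dim_quotient hsp] at hadd
  let φ : V.presheaf.stalk (π c) ⟶ CommRingCat.of R := Scheme.stalkClosedPointTo π
  have hφ : Spec.map φ ≫ V.fromSpecStalk (π c) = π := Scheme.Spec_stalkClosedPointTo_fromSpecStalk π
  have hπflat : Flat π := by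
    haveI : Flat (Hens2.specOf Y y R) := by
      haveI := Groth.Agent.S0736.result (Y.presheaf.stalk y) R (Groth.Agent.S12237.result (Y.presheaf.stalk y) R)
      haveI := AlgSpLib.flat_fromSpecStalk y
      haveI : Flat (Spec.map (CommRingCat.ofHom (algebraMap (Y.presheaf.stalk y) R))) :=
        (HasRingHomProperty.Spec_iff (P := @Flat)).2 (RingHom.flat_algebraMap_iff.2 inferInstance)
      infer_instance
    let σ : Spec (CommRingCat.of R) ⟶ pullback (Hens2.specOf Y y R) (C.DS.obj j).hom :=
      pullback.lift (𝟙 _) π (by rw [Category.id_comp]; exact (C.w j).symm)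
    haveI : AlgebraicGeometry.Etale σ := by
      haveI : AlgebraicGeometry.Etale (σ ≫ pullback.fst (Hens2.specOf Y y R) (C.DS.obj j).hom) := by
        rw [pullback.lift_fst]; infer_instance
      exact AlgebraicGeometry.Etale.of_comp σ (pullback.fst (Hens2.specOf Y y R) (C.DS.obj j).hom)
    rw [show π = σ ≫ pullback.snd (Hens2.specOf Y y R) (C.DS.obj j).hom from (pullback.lift_snd _ _ _).symm]
    infer_instance
  have hflat : φ.hom.Flat := by
    show ((π.stalkMap c) ≫ (stalkClosedPointIso (CommRingCat.of R)).hom).hom.Flat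
    rw [CommRingCat.hom_comp]
    exact RingHom.Flat.comp (Flat.stalkMap π c)
      (RingHom.Flat.of_bijective (ConcreteCategory.bijective_of_isIso (stalkClosedPointIso (CommRingCat.of R)).hom))
  have hprime : CycDivLib.primeOf hsp = (Spec.map φ P : PrimeSpectrum (V.presheaf.stalk (π c))) := by
    refine (V.fromSpecStalk (π c)).isEmbedding.injective ?_
    refine (CycDivLib.stalkPt_primeOf hsp).trans ?_
    rw [← Scheme.Hom.comp_apply, hφ]
  have hiso : ∀ w : Ideal R, w.IsPrime → w.comap φ.hom = P.asIdeal.comap φ.hom → P.asIdeal ≤ w := fun w hw hwP => by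
    let wp : Spec (CommRingCat.of R) := (⟨w, hw⟩ : PrimeSpectrum R)
    have h1 : π wp = π P := by
      rw [← hφ, Scheme.Hom.comp_apply, Scheme.Hom.comp_apply]
      exact congrArg _ (PrimeSpectrum.ext hwP)
    have h2 : P ∉ U := fun h => h (subset_closure rfl)
    have h3 : wp ∉ U := fun h => h2 (by
      rw [← hW] at h ⊢
      show π P ∈ W
      rw [← h1]
      exact h)
    have h4 : (P : PrimeSpectrum R) ⤳ wp := specializes_iff_mem_closure.2 (not_not.1 h3)
    exact (PrimeSpectrum.le_iff_specializes (R := R) _ _).2 h4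
  haveI : IsLocalHom φ.hom := Scheme.isLocalHom_stalkClosedPointTo' π
  have hle := dim_le_quotient φ.hom hflat P.asIdeal hiso
  rw [hprime] at hadd
  have h5 : (e : WithBot ℕ∞) ≤ (s : WithBot ℕ∞) + (a : WithBot ℕ∞) := by
    rw [hadd]
    exact add_le_add le_rfl (hle.trans ha)
  exact_mod_cast h5

end EtArtinLib
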