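import Groth.Agent.EtArtinLib.Step

/-!
# The affine bound
-/

set_option autoImplicit false
set_option linter.all false
set_option backward.isDefEq.respectTransparency false
set_option backward.isDefEq.respectTransparency.types false
set_option synthInstance.maxHeartbeats 400000
set_option maxHeartbeats 1000000

universe u

open CategoryTheory CategoryTheory.Limits CategoryTheory.Abelian AlgebraicGeometry Opposite
open Groth.Agent Groth.Agent.EtShLib EtPBCProperLib SkySumLib

attribute [local instance] EtSliceLib.pullExact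

noncomputable section

namespace EtArtinLib

theorem subsingleton_push_stalk_closed {Z X : Scheme.{u}} (i : Z ⟶ X) (G : EtCoh.Ab Z) {Ω : Type u} [Field Ω]
    [IsSepClosed Ω] (ξ : Spec (CommRingCat.of Ω) ⟶ X) (hc : IsClosed (Set.range i.base))
    (hξ : ξ.base default ∉ Set.range i.base) :
    Subsingleton ((stk (A := AddCommGrpCat.{u + 1}) ξ).obj ((EtCoh.push i).obj G)) := by
  refine subsingleton_stalk ξ (T := (Set.range i.base)ᶜ) hc.isOpen_compl hξ fun U hU => ?_
  haveI : IsEmpty ((EtCoh.bc i).obj U).left := ⟨fun p => by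
    have hc : U.hom.base ((pullback.fst U.hom i).base p) = i.base ((pullback.snd U.hom i).base p) :=
      congrArg (fun t : pullback U.hom i ⟶ X => t.base p) pullback.condition
    exact hU ⟨_, rfl⟩ ⟨_, hc.symm⟩⟩
  exact subsingleton_sect_of_isEmpty G ((EtCoh.bc i).obj U)

theorem artin_zero : Artin.{u} 0 := by
  intro k _ _ X _ a _ hdim F hF q hq
  haveI : IsLocallyNoetherian X := LocallyOfFiniteType.isLocallyNoetherian a
  haveI := IsLocallyArtinian.of_topologicalKrullDim_le_zero (X := X) (by exact_mod_cast hdim)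
  haveI : Finite X := finite_of_compact_of_discrete
  haveI : LocallyQuasiFinite a := LocallyQuasiFinite.of_finite_preimage_singleton _ fun _ => Set.toFinite _
  haveI : IsFinite a := IsFinite.of_locallyQuasiFinite a
  haveI : IsSepClosed (IsLocalRing.ResidueField k) := SkySumLib.isSepClosed_residueField_self k
  exact EtShLib.subsingleton_H_of_finite k X a F q (by omega)

theorem exists_padded (k : Type u) [Field k] (A : Type u) [CommRing A] [Algebra k A] [Algebra.FiniteType k A]
    (n : ℕ) [Nontrivial A] (hdim : ringKrullDim A ≤ n) :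
    ∃ g : MvPolynomial (Fin n) k →ₐ[k] A, g.toRingHom.Finite := by
  obtain ⟨s, g, hinj, hfin⟩ := exists_finite_inj_algHom_of_fg k A
  have hs : s ≤ n := by
    letI := g.toRingHom.toAlgebra
    haveI : Module.Finite (MvPolynomial (Fin s) k) A := hfin
    have h := WeilLib.ringKrullDim_eq_of_integral (MvPolynomial (Fin s) k) A hinj
    rw [MvPolynomial.ringKrullDim_of_isNoetherianRing, ringKrullDim_eq_zero_of_field, zero_add] at h
    rw [h] at hdim
    exact_mod_cast (by simpa using hdim : (s : WithBot ℕ∞) ≤ n)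
  let r : MvPolynomial (Fin n) k →ₐ[k] MvPolynomial (Fin s) k :=
    MvPolynomial.aeval fun i => if h : (i : ℕ) < s then MvPolynomial.X ⟨i, h⟩ else 0
  have hr : Function.Surjective r := by
    rw [← AlgHom.range_eq_top, eq_top_iff, ← MvPolynomial.adjoin_range_X, Algebra.adjoin_le_iff]
    rintro _ ⟨i, rfl⟩
    refine ⟨MvPolynomial.X (Fin.castLE hs i), ?_⟩
    show r (MvPolynomial.X (Fin.castLE hs i)) = _
    simp [r]
  exact ⟨g.comp r, RingHom.Finite.comp hfin (RingHom.Finite.of_surjective r.toRingHom hr)⟩

theorem artin_succ {N : ℕ} (hP : ∀ m, m < N + 1 → Artin.{u} m) (hN : 1 ≤ N) : Artin.{u} (N + 1) := by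
  intro k _ _ X _ a _ hdim F hF q hq
  cases isEmpty_or_nonempty X with
  | inl hE =>
    exact hP 0 (by omega) k X a (le_trans (topologicalKrullDim_zero_of_discreteTopology X) (by simp)) F hF q (by omega)
  | inr hne =>
    obtain ⟨φ, hφ⟩ := Spec.map_surjective (X.isoSpec.inv ≫ a)
    letI := φ.hom.toAlgebra
    haveI : Algebra.FiniteType k Γ(X, ⊤) := RingHom.finiteType_algebraMap.mp
      ((HasRingHomProperty.Spec_iff (P := @LocallyOfFiniteType)).mp
        (hφ ▸ (inferInstance : LocallyOfFiniteType (X.isoSpec.inv ≫ a))))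
    haveI : Nonempty ↥(⊤ : X.Opens) := ⟨⟨hne.some, trivial⟩⟩
    haveI : Nontrivial Γ(X, ⊤) := inferInstance
    have hd' : ringKrullDim Γ(X, ⊤) ≤ ((N + 1 : ℕ) : WithBot ℕ∞) := by
      rw [← PrimeSpectrum.topologicalKrullDim_eq_ringKrullDim]
      exact (IsHomeomorph.topologicalKrullDim_eq _ X.isoSpec.hom.homeomorph.isHomeomorph).symm.trans_le hdim
    obtain ⟨g₀, hg₀⟩ := exists_padded k Γ(X, ⊤) (N + 1) hd'
    obtain ⟨h₀, _⟩ := exists_finite_toChart k Γ(X, ⊤) g₀ hg₀
    let Y := Spec (CommRingCat.of (MvPolynomial (Fin N) k))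
    let aY : Y ⟶ Spec (CommRingCat.of k) :=
      Spec.map (CommRingCat.ofHom (algebraMap k (MvPolynomial (Fin N) k)))
    haveI : LocallyOfFiniteType aY :=
      (HasRingHomProperty.Spec_iff (P := @LocallyOfFiniteType)).2 (RingHom.finiteType_algebraMap.2 inferInstance)
    have hY : topologicalKrullDim Y ≤ ((N + 1 - 1 : ℕ) : WithBot ℕ∞) := by
      refine le_of_eq ((PrimeSpectrum.topologicalKrullDim_eq_ringKrullDim _).trans ?_)
      rw [MvPolynomial.ringKrullDim_of_isNoetherianRing, ringKrullDim_eq_zero_of_field, zero_add]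
      simp
    let h := X.isoSpec.hom ≫ h₀
    haveI : IsFinite h := MorphismProperty.comp_mem (W := @IsFinite) _ _ inferInstance ‹_›
    haveI : IsAffineHom (chart Y).ι := isAffineHom_chartι
    haveI : LocallyOfFiniteType (chartStr k aY) := inferInstance
    haveI : LocallyOfFiniteType (h ≫ chartStr k aY) := inferInstance
    have hT : EtCoh.IsTorsion ((EtCoh.push h).obj F) :=
      isTorsion_of_iso ((EtCoh.push h).rightDerivedZeroIsoSelf.app F) (EtShLib.isTorsion_rightDerived_push (f := h) hF 0)
    haveI : Subsingleton (EtCoh.H (chart Y : Scheme.{u}) ((EtCoh.push h).obj F) q) := by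
      refine subsingleton_H_chart (by omega) hP k aY hY _ hT (fun x hx => ?_) q hq
      have hxr : x ∈ Set.range h.base := by
        by_contra hne'
        obtain ⟨Ω, _, _, ξ, hr, hne⟩ := hx
        have hb : ξ.base default = x := hr.le ⟨default, rfl⟩
        haveI := subsingleton_push_stalk_closed h F ξ h.isClosedMap.isClosed_range (by rwa [hb])
        exact hne (AddCommGrpCat.isZero_of_subsingleton _)
      obtain ⟨z, rfl⟩ := hxr
      rw [closureDim_le_iff (chartStr k aY)]
      refine le_trans ?_ ((closureDim_le_iff (h ≫ chartStr k aY) z (N + 1)).1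
        ((topologicalKrullDim_subspace_le X _).trans hdim))
      rw [AlgSpLib.resTrdeg_comp h (chartStr k aY)]
      exact le_add_right le_rfl
    exact (Groth.Agent.S14451.result h F (fun j hj => isZero_rightDerived_push_finite h _ j hj) q).2.subsingleton

/-- Artin vanishing over separably closed fields. -/
theorem artin (n : ℕ) : Artin.{u} n := by
  induction n using Nat.strong_induction_on with
  | _ n ih =>
    match n, ih with
    | 0, _ => exact artin_zero
    | 1, _ => exact fun k _ _ X _ f _ hd => CdFieldLib.cohDimLE_one_sepClosed k f hd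
    | N + 2, ih => exact artin_succ ih (by omega)

variable {k : Type u} [Field k] {X Y : Scheme.{u}} (aX : X ⟶ Spec (CommRingCat.of k))
  (aY : Y ⟶ Spec (CommRingCat.of k)) [LocallyOfFiniteType aX] [LocallyOfFiniteType aY]
  (f : X ⟶ Y) (w : f ≫ aY = aX) [IsAffineHom f] (F : EtCoh.Ab X) (hF : EtCoh.IsTorsion F) (d : ℕ)
  (hd : ∀ x ∈ EtPBC.supp F, topologicalKrullDim (closure ({x} : Set X)) ≤ d)

include aX aY w hF hd in
/-- Artin's theorem on higher direct images along affine morphisms. -/
theorem supp_Rpush_subset (q : ℕ) : EtPBC.supp ((EtCoh.Rpush f q).obj F) ⊆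
    {y | topologicalKrullDim (closure ({y} : Set Y)) + (q : WithBot ℕ∞) ≤ (d : WithBot ℕ∞)} :=
  supp_subset_of_stalk_zero fun Ω _ _ ξ hξ => by
    obtain ⟨s, hs, hs'⟩ := exists_closureDim aY (ξ.base default)
    have hsq : d < s + q := by
      by_contra h
      exact hξ (by rw [Set.mem_setOf_eq, hs]; exact_mod_cast (show s + q ≤ d by omega))
    by_cases hds : d < s
    · exact isZero_stk_Rpush_of_lt aX aY f w F d hd ξ s hs'.ge hds q
    · exact isZero_stk_Rpush_of_trdeg aX aY f w F hF d hd (artin (d - s)) ξ s hs'.ge (by omega) q (by omega)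

include aX aY w hF hd in
theorem isZero_Rpush (q : ℕ) (hq : d < q) : IsZero ((EtCoh.Rpush f q).obj F) :=
  isZero_of_stalks' _ fun Ω _ _ ξ => isZero_stalk_of_notMem_supp ξ fun h => by
    obtain ⟨s, hs, -⟩ := exists_closureDim aY (ξ.base default)
    have h1 := supp_Rpush_subset aX aY f w F hF d hd q h
    rw [Set.mem_setOf_eq, hs] at h1
    have h2 : s + q ≤ d := by exact_mod_cast h1
    omega

end EtArtinLib
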