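import Groth.Agent.EtArtinLib.Affine
import Groth.Agent.EtProperConsLib.Abstract
import Groth.Agent.EtPBCProperLib.Shriek

/-!
# Higher direct images along open immersions and sheaves supported on sections
-/

set_option autoImplicit false
set_option linter.all false
set_option backward.isDefEq.respectTransparency false
set_option backward.isDefEq.respectTransparency.types false
set_option synthInstance.maxHeartbeats 400000
set_option maxHeartbeats 1000000

universe u

open CategoryTheory CategoryTheory.Limits CategoryTheory.Abelian AlgebraicGeometry Opposite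
open Groth.Agent Groth.Agent.EtShLib EtPBCProperLib SkySumLib

attribute [local instance] EtSliceLib.pullExact

noncomputable section

namespace EtArtinLib

theorem isZero_pull_Rpush_open {U X : Scheme.{u}} (j : U ⟶ X) [IsOpenImmersion j] (F : EtCoh.Ab U) (b : ℕ) :
    IsZero ((EtCoh.pull j).obj ((EtCoh.Rpush j (b + 1)).obj F)) := by
  haveI : (EtCoh.push j).Additive := { }
  haveI : (EtCoh.pull j).Additive := (EtCoh.pullPushAdj j).left_adjoint_additive
  haveI : PreservesFiniteColimits (EtCoh.pull j) :=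
    haveI : PreservesColimitsOfSize.{0, 0} (EtCoh.pull j) := (EtCoh.pullPushAdj j).leftAdjoint_preservesColimits
    PreservesColimitsOfSize.preservesFiniteColimits _
  haveI : (EtCoh.pull j).PreservesHomology := inferInstance
  haveI : ∀ G, IsIso ((EtCoh.pullPushAdj j).counit.app G) := fun G => counit_isIso_of_openImmersion j G
  haveI : IsIso (EtCoh.pullPushAdj j).counit := NatIso.isIso_of_isIso_app _
  let I := injectiveResolution F
  let K := ((EtCoh.push j).mapHomologicalComplex (ComplexShape.up ℕ)).obj I.cocomplex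
  let e : (EtCoh.pull j).obj ((EtCoh.Rpush j (b + 1)).obj F) ≅ I.cocomplex.homology (b + 1) :=
    (EtCoh.pull j).mapIso (I.isoRightDerivedObj (EtCoh.push j) (b + 1)) ≪≫
      ((K.sc (b + 1)).mapHomologyIso (EtCoh.pull j)).symm ≪≫
      (HomologicalComplex.homologyFunctor _ _ (b + 1)).mapIso
        ((NatIso.mapHomologicalComplex (asIso (EtCoh.pullPushAdj j).counit) _).app I.cocomplex)
  exact (((I.cocomplex_exactAt_succ b).isZero_homology)).of_iso e

theorem isZero_stk_Rpush_open {U X : Scheme.{u}} (j : U ⟶ X) [IsOpenImmersion j] (F : EtCoh.Ab U) (b : ℕ)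
    (hb : 0 < b) {Ω : Type u} [Field Ω] [IsSepClosed Ω] (ξ : Spec (CommRingCat.of Ω) ⟶ X)
    (hξ : ξ.base default ∈ Set.range j.base) :
    IsZero ((stk (A := AddCommGrpCat.{u + 1}) ξ).obj ((EtCoh.Rpush j b).obj F)) := by
  obtain ⟨b, rfl⟩ : ∃ c, b = c + 1 := ⟨b - 1, by omega⟩
  have hsub : Set.range ξ.base ⊆ Set.range j.base := by
    rintro _ ⟨z, rfl⟩
    rw [Subsingleton.elim z default]
    exact hξ
  let ζ := IsOpenImmersion.lift j ξ hsub
  haveI : (stk (A := AddCommGrpCat.{u + 1}) ζ).Additive := inferInstance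
  have h := (stk (A := AddCommGrpCat.{u + 1}) ζ).map_isZero (isZero_pull_Rpush_open j F b)
  have h' := h.of_iso ((stalkPull (A := AddCommGrpCat.{u + 1}) j ζ).app ((EtCoh.Rpush j (b + 1)).obj F))
  rwa [IsOpenImmersion.lift_fac] at h'

theorem isZero_Rpush_of_section {X Y : Scheme.{u}} (π : X ⟶ Y) [QuasiCompact π] [QuasiSeparated π] (i : Y ⟶ X) [IsClosedImmersion i]
    (hi : i ≫ π = 𝟙 Y) (G : EtCoh.Ab X)
    (hG : ∀ (Ω : Type u) [Field Ω] [IsSepClosed Ω] (ξ : Spec (CommRingCat.of Ω) ⟶ X),
      ξ.base default ∉ Set.range i.base → IsZero ((stk (A := AddCommGrpCat.{u + 1}) ξ).obj G))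
    (a : ℕ) (ha : 0 < a) : IsZero ((EtCoh.Rpush π a).obj G) := by
  let u₀ := (EtCoh.pullPushAdj i).unit.app G
  haveI : IsIso u₀ := isIso_of_stalks (A := AddCommGrpCat.{u + 1}) _ fun Ω _ _ ξ => by
    by_cases hξ : ξ.base default ∈ Set.range i.base
    · obtain ⟨ζ, rfl⟩ := exists_factor i ξ hξ
      exact isIso_unit_stalk_closed i G ζ
    · haveI := subsingleton_push_stalk i ((EtCoh.pull i).obj G) ξ hξ
      exact isIso_of_source_target_iso_zero _ (hG Ω ξ hξ).isoZero
        (AddCommGrpCat.isZero_of_subsingleton ((stk (A := AddCommGrpCat.{u + 1}) ξ).obj ((EtCoh.push i).obj ((EtCoh.pull i).obj G)))).isoZero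
  haveI : (EtCoh.push π).Additive := { }
  haveI : (EtCoh.push i).Additive := { }
  haveI : (EtCoh.push (i ≫ π)).Additive := { }
  haveI : IsFinite (i ≫ π) := by rw [hi]; infer_instance
  have h := EtProperConsLib.prop_of_comp (EtCoh.push π) (IsZero (C := EtCoh.Ab Y)) (EtCoh.push i)
    (H := EtCoh.push (i ≫ π)) (EtCoh.pushComp π i) (X := (EtCoh.pull i).obj G) a
    (fun a' b hb _ => Functor.map_isZero ((EtCoh.push π).rightDerived a') (EtStrictAcycLib.isZero_Rpush_finite i _ b hb))
    (EtStrictAcycLib.isZero_Rpush_finite (i ≫ π) _ a ha)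
  exact IsZero.of_iso h (((EtCoh.push π).rightDerived a).mapIso
    (asIso u₀ ≪≫ ((EtCoh.push i).rightDerivedZeroIsoSelf.app _).symm))

end EtArtinLib
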