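import Groth.Agent.EtArtinLib.Compact
import Groth.Agent.WeilLib.Dim
import Groth.Agent.CycP1Lib.Graph
import Groth.Agent.S14451
import Mathlib.RingTheory.NoetherNormalization

/-!
# The induction step
-/

set_option autoImplicit false
set_option linter.all false
set_option backward.isDefEq.respectTransparency false
set_option backward.isDefEq.respectTransparency.types false
set_option synthInstance.maxHeartbeats 400000
set_option maxHeartbeats 1000000

universe u

open CategoryTheory CategoryTheory.Limits CategoryTheory.Abelian AlgebraicGeometry Opposite HomogeneousLocalization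
open Groth.Agent Groth.Agent.EtShLib EtPBCProperLib SkySumLib

attribute [local instance] EtSliceLib.pullExact

noncomputable section

namespace EtArtinLib

/-- The graded form of the bound through higher direct images. -/
theorem subsingleton_H_graded {X S : Scheme.{u}} (f : X ⟶ S) [PreservesFiniteLimits (EtCoh.pull f)] :
    ∀ (a : ℕ) (C : EtCoh.Ab X) (N : ℕ), a < N → (∀ q, a < q → IsZero ((EtCoh.Rpush f q).obj C)) →
      (∀ q ≤ a, ∀ m, m + q = N → Subsingleton (EtCoh.H S ((EtCoh.Rpush f q).obj C) m)) →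
      Subsingleton (EtCoh.H X C N) := by
  haveI : (EtCoh.push f).Additive := { }
  haveI : PreservesLimitsOfSize.{0, 0} (EtCoh.push f) := (EtCoh.pullPushAdj f).rightAdjoint_preservesLimits
  haveI : PreservesFiniteLimits (EtCoh.push f) := PreservesLimitsOfSize.preservesFiniteLimits _
  intro a
  induction a with
  | zero =>
    intro C N hN hR hH
    haveI : Subsingleton (EtCoh.H S ((EtCoh.push f).obj C) N) := by
      have h0 := hH 0 le_rfl N (by omega)
      exact @Function.Injective.subsingleton _ _ _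
        (EtAcycLib.bijective_mk₀_iso_postcomp ((EtCoh.push f).rightDerivedZeroIsoSelf.app C).symm N).1 h0
    exact (Groth.Agent.S14451.result f C (fun q hq => hR q hq) N).2.subsingleton
  | succ a ih =>
    intro C N hN hR hH
    obtain ⟨n, rfl⟩ : ∃ m, N = m + 1 := ⟨N - 1, by omega⟩
    let ip := (EnoughInjectives.presentation C).some
    haveI : Injective ip.J := ip.injective
    let T₀ : ShortComplex (EtCoh.Ab X) := ShortComplex.mk ip.f (cokernel.π ip.f) (cokernel.condition _)
    have hT : T₀.ShortExact := { exact := ShortComplex.exact_of_g_is_cokernel _ (cokernelIsCokernel _) }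
    haveI : Injective T₀.X₂ := ip.injective
    let D := EtCechInjLib.derDelta (EtCoh.push f)
    have hI : ∀ q : ℕ, IsZero ((D.F (q + 1)).obj T₀.X₂) := fun q =>
      Functor.isZero_rightDerived_obj_injective_succ _ q _
    have hδ : ∀ q : ℕ, IsIso (D.δ hT (q + 1)) := fun q => by
      haveI : Mono (D.δ hT (q + 1)) := (D.exact₃ hT (q + 1)).mono_g ((hI q).eq_of_src _ _)
      haveI : Epi (D.δ hT (q + 1)) := (D.exact₁ hT (q + 1)).epi_f ((hI (q + 1)).eq_of_tgt _ _)
      exact isIso_of_mono_of_epi _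
    have hC : ∀ q, a < q → IsZero ((EtCoh.Rpush f q).obj T₀.X₃) := fun q hq => by
      obtain ⟨q, rfl⟩ : ∃ m, q = m + 1 := ⟨q - 1, by omega⟩
      haveI := hδ q
      exact IsZero.of_iso (hR (q + 1 + 1) (by omega)) (asIso (D.δ hT (q + 1)))
    have hHC : ∀ q ≤ a, ∀ m, m + q = n → Subsingleton (EtCoh.H S ((EtCoh.Rpush f q).obj T₀.X₃) m) := by
      intro q hq m hm
      rcases q with _ | q
      · haveI : Injective ((D.F 0).obj T₀.X₂) :=
          haveI := EtShLib.injective_push f T₀.X₂
          Injective.of_iso ((EtCoh.push f).rightDerivedZeroIsoSelf.app T₀.X₂).symm inferInstance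
        haveI := D.preservesZero 0
        let d := D.δ hT 0
        let S₂ : ShortComplex (EtCoh.Ab S) := ShortComplex.mk (kernel.ι d) d (kernel.condition d)
        have hS₂ : S₂.ShortExact :=
          { exact := ShortComplex.exact_of_f_is_kernel _ (kernelIsKernel _)
            mono_f := inferInstanceAs (Mono (kernel.ι d))
            epi_g := (D.exact₁ hT 0).epi_f ((hI 0).eq_of_tgt _ _) }
        let S₁ : ShortComplex (EtCoh.Ab S) := ShortComplex.mk ((D.F 0).map T₀.f)
          (kernel.lift d ((D.F 0).map T₀.g) (D.map_comp_δ hT 0)) ((cancel_mono (kernel.ι d)).1 (by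
            rw [Category.assoc, kernel.lift_ι, zero_comp, ← Functor.map_comp, T₀.zero, Functor.map_zero]))
        have hS₁ : S₁.ShortExact :=
          { exact := by
              haveI : Mono ((T₀.map (D.F 0)).f) := D.mono₀ hT
              haveI : Mono S₁.f := D.mono₀ hT
              have hk := (D.exact₂ hT 0).fIsKernel
              refine ShortComplex.exact_of_f_is_kernel _ ?_
              exact KernelFork.IsLimit.ofι' _ _ fun t ht =>
                ⟨hk.lift (KernelFork.ofι t (by
                    show t ≫ (D.F 0).map T₀.g = 0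
                    rw [← kernel.lift_ι d ((D.F 0).map T₀.g) (D.map_comp_δ hT 0), ← Category.assoc, ht, zero_comp])),
                  hk.fac _ WalkingParallelPair.zero⟩
            mono_f := D.mono₀ hT
            epi_g := (D.exact₃ hT 0).epi_kernelLift }
        refine subsingleton_of_forall_eq 0 fun (y : Ext.{u + 1} _ S₂.X₂ m) => ?_
        haveI := hH 1 (by omega) m (by omega)
        obtain ⟨z, rfl⟩ := Ext.covariant_sequence_exact₂ _ hS₂ y
          (Subsingleton.elim (α := EtCoh.H S ((EtCoh.Rpush f 1).obj C) m) _ _)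
        haveI := hH 0 (by omega) (m + 1) (by omega)
        obtain ⟨w, rfl⟩ := Ext.covariant_sequence_exact₃ _ hS₁ (z : Ext.{u + 1} _ S₁.X₃ m) (n₁ := m + 1) rfl
          (Subsingleton.elim (α := EtCoh.H S ((EtCoh.Rpush f 0).obj C) (m + 1)) _ _)
        obtain ⟨m, rfl⟩ : ∃ k, m = k + 1 := ⟨m - 1, by omega⟩
        rw [Ext.eq_zero_of_injective w, Ext.zero_comp, Ext.zero_comp]
      · haveI := hδ q
        have h1 := hH (q + 1 + 1) (by omega) m (by omega)
        exact @Function.Injective.subsingleton _ _ _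
          (EtAcycLib.bijective_mk₀_iso_postcomp (asIso (D.δ hT (q + 1))) m).1 h1
    refine subsingleton_of_forall_eq 0 fun (y : Ext.{u + 1} _ T₀.X₁ (n + 1)) => ?_
    obtain ⟨z, rfl⟩ := Ext.covariant_sequence_exact₁ _ hT y (Ext.eq_zero_of_injective _) (n₀ := n) rfl
    haveI := ih T₀.X₃ n (by omega) hC hHC
    rw [show z = 0 from Subsingleton.elim (α := EtCoh.H X T₀.X₃ n) z 0, Ext.zero_comp]

theorem subsingleton_H_chart {n : ℕ} (hn : 2 ≤ n) (hP : ∀ m, m < n → Artin.{u} m) (k : Type u) [Field k] [IsSepClosed k]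
    {Y : Scheme.{u}} [IsAffine Y] (aY : Y ⟶ Spec (CommRingCat.of k)) [LocallyOfFiniteType aY]
    (hY : topologicalKrullDim Y ≤ ((n - 1 : ℕ) : WithBot ℕ∞))
    (F : EtCoh.Ab (chart Y : Scheme.{u})) (hF : EtCoh.IsTorsion F)
    (hd : ∀ x ∈ EtPBC.supp F, topologicalKrullDim (closure ({x} : Set (chart Y : Scheme.{u}))) ≤ n)
    (N : ℕ) (hN : n < N) : Subsingleton (EtCoh.H (chart Y : Scheme.{u}) F N) := by
  let f := (chart Y).ι ≫ CohB1.ProjSpaceOver.toBase 1 Y
  haveI := isAffineHom_chartι (Y := Y)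
  haveI : IsAffine (chart Y : Scheme.{u}) := isAffineOpen_chart (Fin.rev 0)
  haveI : IsAffineHom f := isAffineHom_of_isAffine f
  haveI : IsLocallyNoetherian Y := LocallyOfFiniteType.isLocallyNoetherian aY
  haveI : IsNoetherian Y := { }
  refine subsingleton_H_graded f n F N hN
    (fun q hq => isZero_Rpush_proj k aY F hF hd hn (hP _ (by omega)) q hq) fun q hq m hm => ?_
  have hT : EtCoh.IsTorsion ((EtCoh.Rpush f q).obj F) := EtShLib.isTorsion_rightDerived_push (f := f) hF q
  rcases Nat.eq_zero_or_pos q with rfl | hq0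
  · exact hP (n - 1) (by omega) k Y aY hY _ hT m (by omega)
  refine subsingleton_H_of_support (hP (n - q) (by omega)) k (cohDimLE_sepClosed k) aY
    {y : Y | topologicalKrullDim (closure ({y} : Set Y)) ≤ ((n - q : ℕ) : WithBot ℕ∞)} (stable_closureDim_le _)
    (fun y hy => (closureDim_le_iff aY y _).1 hy) _ hT (supp_subset_of_stalk_zero fun Ω _ _ ξ hξ => ?_) m (by omega)
  obtain ⟨s, hs, hs'⟩ := exists_closureDim aY (ξ.base default)
  have hsq : n - q < s := by
    by_contra h
    exact hξ (by rw [Set.mem_setOf_eq, hs]; exact_mod_cast (show s ≤ n - q by omega))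
  haveI : LocallyOfFiniteType (chartStr k aY) := inferInstance
  by_cases hns : n < s
  · exact isZero_stk_Rpush_of_lt (chartStr k aY) aY f (Category.assoc _ _ _) F n hd ξ s hs'.ge hns q
  · exact isZero_stk_Rpush_of_trdeg (chartStr k aY) aY f (Category.assoc _ _ _) F hF n hd (hP (n - s) (by omega)) ξ s
      hs'.ge (by omega) q (by omega)

theorem chartMap_coordRing' (B : Type u) [CommRing B] (b : B) :
    P1.chartMap.{u} 1 B b (ChowLib.coordRing 1 0) = b := by
  let i : Fin (1 + 1) := 1
  let j : Fin (1 + 1) := 0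
  have h : (ChowLib.coordRing.{u} i j).val * algebraMap _ (Localization.Away (P1.T.{u} i)) (P1.T.{u} i ^ 1) =
      algebraMap _ (Localization.Away (P1.T.{u} i)) (P1.T.{u} j) := by
    rw [ChowLib.coordRing, Away.val_mk, Localization.mk_eq_mk']
    exact IsLocalization.mk'_spec _ _ _
  simp only [P1.chartMap, RingHom.comp_apply, HomogeneousLocalization.algebraMap_apply]
  have hu : IsUnit (MvPolynomial.eval₂Hom ((Int.castRingHom B).comp ULift.ringEquiv.toRingHom)
      (Function.update (fun _ => b) i 1) (P1.T.{u} i)) := by simp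
  show IsLocalization.Away.lift (S := Localization.Away (P1.T.{u} i)) (P1.T.{u} i) hu _ = _
  have h2 := congrArg (IsLocalization.Away.lift (S := Localization.Away (P1.T.{u} i)) (P1.T.{u} i) hu) h
  rw [map_mul, IsLocalization.Away.lift_eq, IsLocalization.Away.lift_eq] at h2
  simpa [i, j, Function.update] using h2

/-- A finite morphism to the affine line over affine space. -/
theorem exists_finite_toChart (k : Type u) [Field k] {N : ℕ} (A : Type u) [CommRing A] [Algebra k A]
    (g₀ : MvPolynomial (Fin (N + 1)) k →ₐ[k] A) (hg₀ : g₀.toRingHom.Finite) :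
    ∃ h : Spec (CommRingCat.of A) ⟶ (chart (Spec (CommRingCat.of (MvPolynomial (Fin N) k))) : Scheme.{u}), IsFinite h := by
  let P := MvPolynomial (Fin N) k
  let Y := Spec (CommRingCat.of P)
  let X := Spec (CommRingCat.of A)
  let Q := CohB1.ProjSpaceOver 1 Y
  let ι₀ := (Scheme.ΓSpecIso (CommRingCat.of A)).inv.hom
  let v₀ : P →+* Γ(X, ⊤) := ι₀.comp (g₀.toRingHom.comp (MvPolynomial.rename Fin.castSucc).toRingHom)
  let a : Γ(X, ⊤) := ι₀ (g₀ (MvPolynomial.X (Fin.last N)))
  let ψ := P1.chartMap.{u} (Fin.rev 0) Γ(X, ⊤) a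
  let hX : X ⟶ Q := ChowLib.poLift (ChowLib.toSpecOf ψ ≫ ChowLib.chart (Fin.rev 0)) (ChowLib.toSpecOf v₀)
  have hfst : hX ≫ ChowLib.toPZ 1 Y = ChowLib.toSpecOf ψ ≫ ChowLib.chart (Fin.rev 0) := pullback.lift_fst _ _ _
  have hsnd : hX ≫ CohB1.ProjSpaceOver.toBase 1 Y = ChowLib.toSpecOf v₀ := pullback.lift_snd _ _ _
  have hle₀ : ⊤ ≤ (hX ≫ ChowLib.toPZ 1 Y) ⁻¹ᵁ ChowLib.Dplus (Fin.rev (0 : Fin (1 + 1))) := by
    rw [hfst]
    intro z _
    rw [← ChowLib.opensRange_chart]
    exact ⟨_, rfl⟩
  have hle : ⊤ ≤ hX ⁻¹ᵁ chart Y := hle₀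
  let φ := hX.appLE (chart Y) ⊤ hle
  have hC : IsAffineOpen (chart Y) := isAffineOpen_chart (Fin.rev 0)
  have key : φ.hom (CycP1Lib.t Y (Fin.rev 0)) = a := by
    have e : ∀ (q : X ⟶ ChowLib.PZ.{u} 1) (_ : q = ChowLib.toSpecOf ψ ≫ ChowLib.chart (Fin.rev 0))
        (h : ⊤ ≤ q ⁻¹ᵁ ChowLib.Dplus.{u} (Fin.rev 0)),
        q.appLE (ChowLib.Dplus (Fin.rev 0)) ⊤ h (AmpleThLib.cj (Fin.rev (0 : Fin (1 + 1))) 0) = a := by
      rintro q rfl h
      refine (AmpleThLib.toSpecOf_awayι_appLE (ChowLib.gr.{u} 1) (ChowLib.X_mem (Fin.rev 0)) one_pos ψ h (ChowLib.coordRing (Fin.rev 0) 0)).trans ?_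
      exact chartMap_coordRing' _ a
    show (hX.appLE (chart Y) ⊤ hle).hom _ = a
    rw [CycP1Lib.t_eq, Fin.rev_rev, Scheme.Hom.app_eq_appLE, ← CommRingCat.comp_apply, Scheme.Hom.appLE_comp_appLE]
    exact e _ hfst hle₀
  let b := ((Scheme.ΓSpecIso (CommRingCat.of P)).inv ≫ (CohB1.ProjSpaceOver.toBase 1 Y).appLE ⊤ (chart Y) le_top)
  have hb : φ.hom.comp b.hom = v₀ := by
    refine ChowLib.toSpecOf_injective ?_
    have h1 : CommRingCat.ofHom (φ.hom.comp b.hom) =
        (Scheme.ΓSpecIso (CommRingCat.of P)).inv ≫ (hX ≫ CohB1.ProjSpaceOver.toBase 1 Y).appTop := by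
      show b ≫ φ = _
      rw [Category.assoc, Scheme.Hom.appLE_comp_appLE, Scheme.Hom.appTop, Scheme.Hom.app_eq_appLE]
      rfl
    show X.toSpecΓ ≫ Spec.map (CommRingCat.ofHom (φ.hom.comp b.hom)) = _
    rw [h1, toSpecΓ_map, hsnd]
  let R₁ : MvPolynomial (Fin (N + 1)) k →+* Γ(Q, chart Y) :=
    MvPolynomial.eval₂Hom (b.hom.comp MvPolynomial.C)
      (Fin.lastCases (CycP1Lib.t Y (Fin.rev 0)) (fun i => b.hom (MvPolynomial.X i)))
  have hcomp : φ.hom.comp R₁ = ι₀.comp g₀.toRingHom := by
    refine MvPolynomial.ringHom_ext (fun r => ?_) (fun i => ?_)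
    · simp only [R₁, RingHom.comp_apply, MvPolynomial.eval₂Hom_C]
      show φ.hom (b.hom (MvPolynomial.C r)) = ι₀ (g₀ (MvPolynomial.C r))
      refine (RingHom.congr_fun hb (MvPolynomial.C r)).trans ?_
      show ι₀ (g₀ (MvPolynomial.rename Fin.castSucc (MvPolynomial.C r))) = _
      rw [MvPolynomial.rename_C]
    · simp only [R₁, RingHom.comp_apply, MvPolynomial.eval₂Hom_X']
      induction i using Fin.lastCases with
      | last => rw [Fin.lastCases_last]; exact key
      | cast i =>
        rw [Fin.lastCases_castSucc]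
        refine (RingHom.congr_fun hb (MvPolynomial.X i)).trans ?_
        show ι₀ (g₀ (MvPolynomial.rename Fin.castSucc (MvPolynomial.X i))) = ι₀ (g₀ (MvPolynomial.X i.castSucc))
        rw [MvPolynomial.rename_X]
  have hfin : φ.hom.Finite := by
    refine RingHom.Finite.of_comp_finite (f := R₁) ?_
    rw [hcomp]
    exact RingHom.Finite.comp (RingHom.Finite.of_surjective ι₀
      (ConcreteCategory.bijective_of_isIso (Scheme.ΓSpecIso (CommRingCat.of A)).inv).2) hg₀
  haveI : IsFinite (Spec.map φ) := (IsFinite.SpecMap_iff φ).2 hfin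
  exact ⟨X.isoSpec.hom ≫ Spec.map φ ≫ hC.isoSpec.inv, MorphismProperty.comp_mem (W := @IsFinite) _ _ inferInstance
    (MorphismProperty.comp_mem (W := @IsFinite) _ _ inferInstance inferInstance)⟩

end EtArtinLib
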