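import Groth.Agent.AlgSpLib.TrdegInv
import Groth.Agent.DeltaFFLib.Geo
import Groth.Agent.FlatDimLib.Trdeg
import Groth.Agent.CycPushLib.Closed
import Groth.Agent.EtCdLocalLib.Alg
import Groth.Prelude.Def_Hens2

/-!
# Residue transcendence degrees on the strict localizations
-/

set_option autoImplicit false
set_option linter.all false
set_option backward.isDefEq.respectTransparency false
set_option backward.isDefEq.respectTransparency.types false
set_option synthInstance.maxHeartbeats 400000
set_option maxHeartbeats 1000000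

universe u

open CategoryTheory CategoryTheory.Limits AlgebraicGeometry TensorProduct

noncomputable section

namespace EtArtinLib

theorem isAlgebraic_residueField_sh (A R : Type u) [CommRing A] [IsLocalRing A] [CommRing R] [IsLocalRing R]
    [Algebra A R] [IsLocalHom (algebraMap A R)] [Hensel.IsStrictHenselization A R] (Q : Ideal A) [Q.IsPrime]
    (P : Ideal R) [P.IsPrime] (hQ : Q = P.comap (algebraMap A R)) :
    @Algebra.trdeg Q.ResidueField P.ResidueField _ _ (Ideal.ResidueField.map Q P (algebraMap A R) hQ).toAlgebra = 0 := by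
  let L := Q.ResidueField
  let F := P.ResidueField
  let ι := Ideal.ResidueField.map Q P (algebraMap A R) hQ
  letI : Algebra L F := ι.toAlgebra
  haveI : IsScalarTower A L F := IsScalarTower.of_algebraMap_eq fun a => by
    show algebraMap A F a = ι (algebraMap A L a)
    rw [Ideal.ResidueField.map_algebraMap]
    exact IsScalarTower.algebraMap_apply A R F a
  have hint : ∀ r : R, IsIntegral L (algebraMap R F r) := fun r => by
    obtain ⟨e⟩ := HenselLib.nonempty_algEquiv_SH (R := A) R
    obtain ⟨U, _, _, _, ξ, hξ⟩ := HenselLib.etCov_of_algEquiv e (HenselLib.etCov_hens _) r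
    obtain ⟨v, rfl⟩ := hξ
    haveI : Module.Finite L (L ⊗[A] U) := Algebra.FormallyUnramified.finite_of_free L (L ⊗[A] U)
    let f : U →ₐ[A] F := (IsScalarTower.toAlgHom A R F).comp ξ
    let g : L ⊗[A] U →ₐ[L] F := Algebra.TensorProduct.lift (Algebra.ofId L F) f fun _ _ => Commute.all _ _
    have hg : g (1 ⊗ₜ v) = algebraMap R F (ξ v) := by
      rw [Algebra.TensorProduct.lift_tmul, map_one, one_mul]
      rfl
    rw [show algebraMap R F (ξ.toRingHom v) = g (1 ⊗ₜ v) from hg.symm]
    exact (IsIntegral.of_finite L _).map g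
  haveI : Algebra.IsAlgebraic L F := ⟨fun z => by
    obtain ⟨a, b, -, rfl⟩ := IsFractionRing.div_surjective (A := R ⧸ P) z
    obtain ⟨a, rfl⟩ := Ideal.Quotient.mk_surjective a
    obtain ⟨b, rfl⟩ := Ideal.Quotient.mk_surjective b
    rw [div_eq_mul_inv]
    exact (hint a).isAlgebraic.mul (hint b).isAlgebraic.inv⟩
  exact trdeg_eq_zero

theorem resTrdeg_sh (A R : Type u) [CommRing A] [IsLocalRing A] [CommRing R] [IsLocalRing R]
    [Algebra A R] [IsLocalHom (algebraMap A R)] [Hensel.IsStrictHenselization A R] (P : PrimeSpectrum R) :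
    Dual3.resTrdeg (Spec.map (CommRingCat.ofHom (algebraMap A R))) P = 0 := by
  rw [DeltaFFLib.resTrdeg_Spec (algebraMap A R) P (P.asIdeal.comap (algebraMap A R)) rfl]
  exact isAlgebraic_residueField_sh A R _ P.asIdeal rfl

theorem resTrdeg_specOf {Y : Scheme.{u}} (y : Y) (R : Type u) [CommRing R] [IsLocalRing R]
    [Algebra (Y.presheaf.stalk y) R] [IsLocalHom (algebraMap (Y.presheaf.stalk y) R)]
    [Hensel.IsStrictHenselization (Y.presheaf.stalk y) R] (P : Spec (CommRingCat.of R)) :
    Dual3.resTrdeg (Hens2.specOf Y y R) P = 0 := by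
  rw [AlgSpLib.resTrdeg_comp, CycPushLib.trdeg_preimmersion_left, zero_add]
  exact resTrdeg_sh (Y.presheaf.stalk y) R P

/-- The residue degrees on the pullback to a strictly local scheme are bounded by those of the source. -/
theorem resTrdeg_fibre_le {k : Type u} [Field k] {X Y : Scheme.{u}} (aX : X ⟶ Spec (CommRingCat.of k))
    (aY : Y ⟶ Spec (CommRingCat.of k)) (f : X ⟶ Y) (w : f ≫ aY = aX) (y : Y) (R : Type u) [CommRing R]
    [IsLocalRing R] [Algebra (Y.presheaf.stalk y) R] [IsLocalHom (algebraMap (Y.presheaf.stalk y) R)]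
    [Hensel.IsStrictHenselization (Y.presheaf.stalk y) R] (z : ↑(pullback f (Hens2.specOf Y y R))) :
    Dual3.resTrdeg (pullback.fst f (Hens2.specOf Y y R) ≫ aX) z ≤
      Dual3.resTrdeg aX (pullback.fst f (Hens2.specOf Y y R) z) := by
  subst w
  let g := Hens2.specOf Y y R
  have e : pullback.fst f g ≫ f ≫ aY = pullback.snd f g ≫ g ≫ aY := pullback.condition_assoc _
  have hpt : f (pullback.fst f g z) = g (pullback.snd f g z) := by
    rw [← Scheme.Hom.comp_apply, ← Scheme.Hom.comp_apply, pullback.condition]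
  rw [e, AlgSpLib.resTrdeg_comp (pullback.snd f g) (g ≫ aY), AlgSpLib.resTrdeg_comp g aY,
    resTrdeg_specOf, add_zero, AlgSpLib.resTrdeg_comp f aY]
  exact add_le_add (le_of_eq (congrArg (Dual3.resTrdeg aY) hpt.symm)) (FlatDimLib.resTrdeg_snd_le z)

end EtArtinLib
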